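import Mathlib
import Cfsg.Agent.H846.E72.AFive
import Cfsg.Agent.H102.E7V.Pos_m3
import Cfsg.Agent.H943.E7V.Iface
import Cfsg.Agent.CharDeep.LinearChar
import Cfsg.Agent.J2.HundredGens
import Cfsg.Agent.S1619
import Cfsg.Agent.Lib.FastPerm
import Cfsg.Agent.H597.BrInv
import Cfsg.Agent.Mrg.Omega.ML.UFour.Perm
import Cfsg.Agent.H240.GThreeC
import Cfsg.Agent.Lib.FinFast
import Cfsg.Agent.FastGrp
import Cfsg.Agent.Prune
set_option linter.all false

section
prune_inst 0x7ff2feff89ecbfdfffff7e3ffefddffdf1edcfffeffffbcbffe8e39faf9f2382bbe5fba79fe058ff1ff6e2b630b87853fd7eeeffe86bdc7ffffd5ff41ffbee0ff5ff352d51d4b8340fb66fff93f077ce7f3fffffffffffffffffffffffffffbeffffffffffff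

-- part: H846/E72/JTwo
section
prune_inst 0x10040000020000000000000200004002000000000000005080040404821000000000008000080080008c040030002811000130420000000a000000011d0080080002001040a000800000000082000000000000000000000000000000041000000000000
set_option linter.all false
open scoped Cfsg.Agent.FastGrp

namespace Cfsg.Agent.J2Q_H846_E72_JTwo

open Cfsg.Agent.J2.HundredGens Cfsg.Agent.SporadicA.PermTab Cfsg.Agent.SporadicA.J2Hundred

private theorem fix4 {g : Equiv.Perm (Fin 100)} (hg : g ∈ G) (h0 : g x0 = x0) (h1 : g x1 = x1) (h2 : g x2 = x2)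
    (h3 : g x3 = x3) : g = 1 := by
  have k := card_ge_of_chk inA (inAll fun _ h => h) or0 cn0 (card_ge_of_chk psu0 (mem2 psu0 psu1) or1 cn1
    (card_ge_of_chk psv0 (mem2 psv0 psv1) or2 cn2 (card_ge_of_chk psw0 (mem1 psw0) or3 cn3 le_rfl)))
  rw [card_G] at k
  have hm : g ∈ ps (ps (ps (ps G x0) x1) x2) x3 := mem_ps.2 ⟨mem_ps.2 ⟨mem_ps.2 ⟨mem_ps.2 ⟨hg, h0⟩, h1⟩, h2⟩, h3⟩
  rwa [Subgroup.eq_bot_of_card_le (ps (ps (ps (ps G x0) x1) x2) x3) (by omega), Subgroup.mem_bot] at hm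

private noncomputable def run' (L : List ℕ) (j : ℕ) : ℕ :=
  List.rec j (fun k _ x => Nat.land (Nat.shiftRight (tab k) (Nat.mul 11 x)) 2047) L

private theorem run_eq : run = run' := by
  funext L j
  induction L with
  | nil => rfl
  | cons k L ih => exact congrArg (lk (tab k)) ih

/-- the words agree on a base -/
private noncomputable def chk4 (L M : List ℕ) : Bool :=
  band (band (Nat.beq (run' L 0) (run' M 0)) (Nat.beq (run' L 13) (run' M 13)))
    (band (Nat.beq (run' L 1) (run' M 1)) (Nat.beq (run' L 2) (run' M 2)))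

private theorem chk_eq : chk = chk4 := by
  funext L M
  delta chk4
  rw [← run_eq]
  refine Bool.eq_iff_iff.2 ⟨fun h => ?_, fun h => ?_⟩
  · have h1 := (allB_iff _ _).1 h
    exact (band_eq_true _ _).2 ⟨(band_eq_true _ _).2 ⟨h1 0 (by decide), h1 13 (by decide)⟩,
      (band_eq_true _ _).2 ⟨h1 1 (by decide), h1 2 (by decide)⟩⟩
  · obtain ⟨h1, h2⟩ := (band_eq_true _ _).1 h
    rw [band_eq_true] at h1 h2
    have h3 : ∀ i : Fin 100, Nat.beq (run L i) (run M i) = true → ((pw M)⁻¹ * pw L) i = i := fun i hi => by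
      rw [Equiv.Perm.mul_apply, Equiv.Perm.inv_eq_iff_eq]
      exact Fin.ext ((pw_val L i).trans ((Nat.eq_of_beq_eq_true hi).trans (pw_val M i).symm))
    have h4 := inv_mul_eq_one.1 (fix4 (mul_mem (inv_mem (pw_mem M)) (pw_mem L)) (h3 _ h1.1) (h3 _ h1.2) (h3 _ h2.1) (h3 _ h2.2))
    exact (allB_iff _ _).2 fun i hi => by
      rw [← pw_val L ⟨i, hi⟩, ← pw_val M ⟨i, hi⟩, h4]
      exact Nat.beq_refl _

end Cfsg.Agent.J2Q_H846_E72_JTwo

-- part: H846/E72/Semi
section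
/-!
# Homomorphisms from semidirect products with a group of order three (TEAM E72, row `J₂` of S5935)
-/

set_option autoImplicit false

namespace Cfsg.Agent.H846.E72.Semi

/-- the cyclic group of order `n`, multiplicatively -/
abbrev C (n : ℕ) : Type := Multiplicative (ZMod n)

/-- the homomorphism of a cyclic group given by the powers of an element -/
def powHom {J : Type*} [Group J] (n : ℕ) [NeZero n] (x : J) (hx : x ^ n = 1) : C n →* J where
  toFun k := x ^ (k.toAdd.val)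
  map_one' := by
    rw [toAdd_one, ZMod.val_zero, pow_zero]
  map_mul' a b := by
    rw [toAdd_mul, ZMod.val_add, ← pow_add]
    conv_rhs => rw [← Nat.div_add_mod (ZMod.val a.toAdd + ZMod.val b.toAdd) n, pow_add, pow_mul, hx, one_pow, one_mul]

theorem powHom_apply {J : Type*} [Group J] (n : ℕ) [NeZero n] (x : J) (hx : x ^ n = 1) (k : C n) :
    powHom n x hx k = x ^ (k.toAdd.val) := rfl

theorem commute_powHom {J : Type*} [Group J] {n m : ℕ} [NeZero n] [NeZero m] {x y : J} (hx : x ^ n = 1)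
    (hy : y ^ m = 1) (h : x * y = y * x) (i : C n) (j : C m) : Commute (powHom n x hx i) (powHom m y hy j) := by
  rw [powHom_apply, powHom_apply]
  exact (show Commute x y from h).pow_pow _ _

/-- the compatibility for the semidirect product -/
theorem compat {N J : Type*} [Group N] [Group J] (F : N →* J) (α : MulAut N) (h3 : α ^ 3 = 1) (w : J)
    (hw : w ^ 3 = 1) (h : ∀ v, F (α v) = w * F v * w⁻¹) (g : C 3) :
    F.comp ((powHom 3 α h3 g).toMonoidHom) = (MulAut.conj (powHom 3 w hw g)).toMonoidHom.comp F := by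
  ext v
  have key : ∀ k : ℕ, ∀ v, F ((α ^ k) v) = w ^ k * F v * (w ^ k)⁻¹ := by
    intro k
    induction k with
    | zero => intro v; simp
    | succ k ih =>
      intro v
      rw [pow_succ, MulAut.mul_apply, ih, h, pow_succ]
      group
  exact key _ v

/-- the homomorphism from the semidirect product -/
def semiHom {N J : Type*} [Group N] [Group J] (F : N →* J) (α : MulAut N) (h3 : α ^ 3 = 1) (w : J)
    (hw : w ^ 3 = 1) (h : ∀ v, F (α v) = w * F v * w⁻¹) : N ⋊[powHom 3 α h3] C 3 →* J :=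
  SemidirectProduct.lift F (powHom 3 w hw) (compat F α h3 w hw h)

/-- the homomorphism from a product of two cyclic groups -/
def pairHom {J : Type*} [Group J] {n : ℕ} [NeZero n] {x y : J} (hx : x ^ n = 1)
    (hy : y ^ n = 1) (h : x * y = y * x) : C n × C n →* J :=
  MonoidHom.noncommCoprod (powHom n x hx) (powHom n y hy) (commute_powHom hx hy h)

/-- the automorphism of order three of `5 ^ 2` -/
def al1 : MulAut (C 5 × C 5) where
  toFun v := (v.2⁻¹, v.1 * v.2⁻¹)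
  invFun v := (v.2 * v.1⁻¹, v.1⁻¹)
  left_inv v := by
    ext <;> simp
  right_inv v := by
    ext <;> simp
  map_mul' v v' := by
    ext1
    · simp [mul_comm]
    · simp only [Prod.snd_mul, Prod.fst_mul, mul_inv]
      exact mul_mul_mul_comm _ _ _ _

theorem al1_three : al1 ^ 3 = 1 := by
  ext1 v
  revert v
  decide +kernel

/-- the automorphism of order three of `3 ^ 2` -/
def al2 : MulAut (C 3 × C 3) where
  toFun v := (v.1, v.2 * v.1)
  invFun v := (v.1, v.2 * v.1⁻¹)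
  left_inv v := by
    ext <;> simp
  right_inv v := by
    ext <;> simp
  map_mul' v v' := by
    ext1
    · simp
    · simp only [Prod.snd_mul, Prod.fst_mul]
      exact mul_mul_mul_comm _ _ _ _

theorem al2_three : al2 ^ 3 = 1 := by
  ext1 v
  revert v
  decide +kernel

/-- the group `5 ^ 2 : 3` -/
abbrev T1 : Type := (C 5 × C 5) ⋊[powHom 3 al1 al1_three] C 3
/-- the group `3 ^ (1 + 2)` -/
abbrev T2 : Type := (C 3 × C 3) ⋊[powHom 3 al2 al2_three] C 3

/-- the generator of the group of order three -/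
def g1 : C 3 := Multiplicative.ofAdd 1

/-- conjugates in `T1` -/
def inn1 (u v : C 5 × C 5) (k : C 3) : T1 := ⟨u, 1⟩ * ⟨v, k⟩ * ⟨u, 1⟩⁻¹
/-- conjugates in `T2` -/
def inn2 (u : C 3 × C 3) (t : T2) : T2 := ⟨u, 1⟩ * t * ⟨u, 1⟩⁻¹

theorem conj1 : ∀ (v1 v2 : C 5) (k : C 3), k ≠ 1 → ∃ u1 u2 : C 5,
    inn1 (u1, u2) 1 g1 = ⟨(v1, v2), k⟩ ∨ inn1 (u1, u2) 1 g1⁻¹ = ⟨(v1, v2), k⟩ := by
  decide +kernel

theorem conj2 : ∀ (v1 v2 k : C 3), k ≠ 1 → ∃ u1 u2 : C 3,
    inn2 (u1, u2) ⟨1, g1⟩ = ⟨(v1, v2), k⟩ ∨ inn2 (u1, u2) ⟨1, g1⟩⁻¹ = ⟨(v1, v2), k⟩ ∨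
    inn2 (u1, u2) ⟨(g1, 1), g1⟩ = ⟨(v1, v2), k⟩ ∨ inn2 (u1, u2) ⟨(g1, 1), g1⟩⁻¹ = ⟨(v1, v2), k⟩ ∨
    inn2 (u1, u2) ⟨(g1, 1), g1 * g1⟩ = ⟨(v1, v2), k⟩ ∨ inn2 (u1, u2) ⟨(g1, 1), g1 * g1⟩⁻¹ = ⟨(v1, v2), k⟩ := by
  decide +kernel

theorem C3_cases : ∀ k : C 3, k = 1 ∨ k = g1 ∨ k = g1 * g1 := by decide +kernel

theorem sum_C3 {M : Type*} [AddCommMonoid M] (F : C 3 → M) : ∑ k : C 3, F k = F 1 + F g1 + F (g1 * g1) := by
  have h : (Finset.univ : Finset (C 3)) = {1, g1, g1 * g1} := by decide +kernel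
  have h1 : (1 : C 3) ∉ ({g1, g1 * g1} : Finset (C 3)) := by decide +kernel
  have h2 : g1 ∉ ({g1 * g1} : Finset (C 3)) := by decide +kernel
  rw [h, Finset.sum_insert h1, Finset.sum_insert h2, Finset.sum_singleton, add_assoc]

/-- the semidirect product as a finite type -/
instance instFin {N : Type*} [Group N] [Fintype N] (φ : C 3 →* MulAut N) : Fintype (N ⋊[φ] C 3) :=
  Fintype.ofEquiv _ SemidirectProduct.equivProd.symm

theorem card_semi {N : Type*} [Group N] [Fintype N] (φ : C 3 →* MulAut N) :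
    Fintype.card (N ⋊[φ] C 3) = 3 * Fintype.card N := by
  rw [Fintype.card_congr SemidirectProduct.equivProd, Fintype.card_prod, mul_comm]
  rfl

theorem sum_semi {M : Type*} [AddCommMonoid M] {N : Type*} [Group N] [Fintype N] (φ : C 3 →* MulAut N)
    (F : N ⋊[φ] C 3 → M) : ∑ t, F t = ∑ v : N, (F ⟨v, 1⟩ + F ⟨v, g1⟩ + F ⟨v, g1 * g1⟩) := by
  rw [← Equiv.sum_comp (SemidirectProduct.equivProd (φ := φ)).symm, Fintype.sum_prod_type]
  exact Finset.sum_congr rfl fun v _ => sum_C3 _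

end Cfsg.Agent.H846.E72.Semi
end

-- part: H846/E72/Pos
section
/-!
# Positivity for the groups `N : 3` and `C_n × A₅` (TEAM E72, row `J₂` of S5935)
-/

set_option autoImplicit false

namespace Cfsg.Agent.H846.E72

open Cfsg IsLocalRing Module Cfsg.Agent.H657 Cfsg.Agent.H943.E7V Semi AFive

variable {M : Ideal AlgInt} {V : ValuationSubring ℂ} {S : Type*} [Group S]

/-- a primitive cube root of unity -/
theorem exists_omega : ∃ w : ℂˣ, w ^ 3 = 1 ∧ (1 : ℂ) + w + w * w = 0 := by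
  have h := Complex.isPrimitiveRoot_exp 3 (by norm_num)
  have h1 := h.pow_eq_one
  have h2 := h.geom_sum_eq_zero (by norm_num)
  set z := Complex.exp (2 * Real.pi * Complex.I / (3 : ℕ)) with hz
  have hz0 : z ≠ 0 := Complex.exp_ne_zero _
  refine ⟨Units.mk0 z hz0, ?_, ?_⟩
  · ext
    rw [Units.val_pow_eq_pow_val, Units.val_mk0, h1, Units.val_one]
  · rw [Units.val_mk0]
    rw [Finset.sum_range_succ, Finset.sum_range_succ, Finset.sum_range_one, pow_zero, pow_one, pow_two] at h2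
    exact h2

/-- positivity for `N : 3`, `N` of odd order, a constant value outside `N` -/
theorem semi_pos (hM : IsPModular 2 M) (hV : Above M V) {n : ℕ}
    (σ : Representation (ResidueField V) S (Fin n → ResidueField V)) {N : Type*} [Group N] [Fintype N]
    (hN : ¬ 2 ∣ 3 * Fintype.card N) (φ : C 3 →* MulAut N) (f : N ⋊[φ] C 3 →* S) {A B : ℂ}
    (hA : ∑ v : N, bc 2 σ (f ⟨v, 1⟩) = A) (hB : ∀ v k, k ≠ 1 → bc 2 σ (f ⟨v, k⟩) = B) :
    (∃ d : ℕ, A + 2 * Fintype.card N * B = d * (3 * Fintype.card N)) ∧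
      (∃ d : ℕ, A - Fintype.card N * B = d * (3 * Fintype.card N)) := by
  classical
  obtain ⟨w, hw3, hw⟩ := exists_omega
  have hreg : ∀ g : N ⋊[φ] C 3, IsPRegular 2 g := by
    intro g h
    apply hN
    rw [← card_semi φ, ← Nat.card_eq_fintype_card]
    exact h.trans (orderOf_dvd_natCard g)
  have hg1 : g1 ≠ 1 := by decide +kernel
  have hg2 : g1 * g1 ≠ 1 := by decide +kernel
  constructor
  · obtain ⟨d, -, hd⟩ := H484.Pos.pos hM hV (σ.comp f) Characters.Core.isIrr_one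
      (fun g hg => absurd (hreg g) hg)
    refine ⟨d, ?_⟩
    rw [card_semi, sum_semi] at hd
    simp only [Pi.one_apply, mul_one, one_mul] at hd
    have h1 : ∑ v : N, (bc 2 (σ.comp f) ⟨v, 1⟩ + bc 2 (σ.comp f) ⟨v, g1⟩ + bc 2 (σ.comp f) ⟨v, g1 * g1⟩) =
        A + 2 * Fintype.card N * B := by
      have h2 : ∀ v : N, bc 2 (σ.comp f) ⟨v, 1⟩ + bc 2 (σ.comp f) ⟨v, g1⟩ + bc 2 (σ.comp f) ⟨v, g1 * g1⟩ =
          bc 2 σ (f ⟨v, 1⟩) + 2 * B := by
        intro v
        have e1 : bc 2 (σ.comp f) ⟨v, g1⟩ = B := hB v g1 hg1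
        have e2 : bc 2 (σ.comp f) ⟨v, g1 * g1⟩ = B := hB v _ hg2
        have e3 : bc 2 (σ.comp f) ⟨v, 1⟩ = bc 2 σ (f ⟨v, 1⟩) := rfl
        rw [e1, e2, e3]
        ring
      simp only [h2, Finset.sum_add_distrib, hA, Finset.sum_const, Finset.card_univ, nsmul_eq_mul]
      ring
    rw [h1] at hd
    rw [← hd]
    push_cast
    ring
  · let l : N ⋊[φ] C 3 →* ℂˣ := (powHom 3 w hw3).comp SemidirectProduct.rightHom
    obtain ⟨d, -, hd⟩ := H484.Pos.pos hM hV (σ.comp f) (CharDeep.LinearChar.isIrrCharacter_of_hom l)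
      (fun g hg => absurd (hreg g) hg)
    refine ⟨d, ?_⟩
    rw [card_semi, sum_semi] at hd
    have l1 : ∀ v : N, ((l (⟨v, 1⟩ : N ⋊[φ] C 3)⁻¹ : ℂˣ) : ℂ) = 1 := by
      intro v
      show (((powHom 3 w hw3) (1 : C 3)⁻¹ : ℂˣ) : ℂ) = 1
      rw [inv_one, map_one, Units.val_one]
    have l2 : ∀ v : N, ((l (⟨v, g1⟩ : N ⋊[φ] C 3)⁻¹ : ℂˣ) : ℂ) = w * w := by
      intro v
      show (((w ^ 2 : ℂˣ)) : ℂ) = w * w
      rw [pow_two, Units.val_mul]
    have l3 : ∀ v : N, ((l (⟨v, g1 * g1⟩ : N ⋊[φ] C 3)⁻¹ : ℂˣ) : ℂ) = w := by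
      intro v
      show (((w ^ 1 : ℂˣ)) : ℂ) = w
      rw [pow_one]
    have h1 : ∑ v : N, (bc 2 (σ.comp f) ⟨v, 1⟩ * ((l (⟨v, 1⟩ : N ⋊[φ] C 3)⁻¹ : ℂˣ) : ℂ) +
        bc 2 (σ.comp f) ⟨v, g1⟩ * ((l (⟨v, g1⟩ : N ⋊[φ] C 3)⁻¹ : ℂˣ) : ℂ) +
        bc 2 (σ.comp f) ⟨v, g1 * g1⟩ * ((l (⟨v, g1 * g1⟩ : N ⋊[φ] C 3)⁻¹ : ℂˣ) : ℂ)) =
        A - Fintype.card N * B := by
      have h2 : ∀ v : N, (bc 2 (σ.comp f) ⟨v, 1⟩ * ((l (⟨v, 1⟩ : N ⋊[φ] C 3)⁻¹ : ℂˣ) : ℂ) +
          bc 2 (σ.comp f) ⟨v, g1⟩ * ((l (⟨v, g1⟩ : N ⋊[φ] C 3)⁻¹ : ℂˣ) : ℂ) +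
          bc 2 (σ.comp f) ⟨v, g1 * g1⟩ * ((l (⟨v, g1 * g1⟩ : N ⋊[φ] C 3)⁻¹ : ℂˣ) : ℂ)) =
          bc 2 σ (f ⟨v, 1⟩) + (- B) := by
        intro v
        have e1 : bc 2 (σ.comp f) ⟨v, g1⟩ = B := hB v g1 hg1
        have e2 : bc 2 (σ.comp f) ⟨v, g1 * g1⟩ = B := hB v _ hg2
        have e3 : bc 2 (σ.comp f) ⟨v, 1⟩ = bc 2 σ (f ⟨v, 1⟩) := rfl
        rw [l1, l2, l3, e1, e2, e3]
        linear_combination B * hw
      simp only [h2, Finset.sum_add_distrib, hA, Finset.sum_const, Finset.card_univ, nsmul_eq_mul]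
      ring
    rw [h1, map_one, Units.val_one, one_mul] at hd
    rw [← hd]
    push_cast
    ring

theorem card_C (n : ℕ) [NeZero n] : Fintype.card (C n) = n := by
  rw [Fintype.card_multiplicative, ZMod.card]

/-- positivity for `C_n × A₅`, the character of degree 4 -/
theorem prod_pos (hM : IsPModular 2 M) (hV : Above M V) {n : ℕ} [NeZero n] (hn : n ∣ 15) {m : ℕ}
    (σ : Representation (ResidueField V) S (Fin m → ResidueField V)) (f : C n × A5 →* S) {P Q R : C n → ℂ}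
    (h1 : ∀ c, bc 2 σ (f (c, 1)) = P c) (h2 : ∀ c g, fx g = 2 → bc 2 σ (f (c, g)) = Q c)
    (h0 : ∀ c g, fx g = 0 → bc 2 σ (f (c, g)) = R c) :
    ∃ e : ℕ, ∑ c, (4 * P c + 20 * Q c - 24 * R c) = (e : ℂ) * (60 * n) := by
  classical
  have hχ := Blocks.CliffordCentral.isIrrCharacter_comp AFive.irr (MonoidHom.snd (C n) A5) Prod.snd_surjective
  obtain ⟨e, -, he⟩ := H484.Pos.pos_mult hM hV (σ.comp f) hχ (by
    rintro ⟨c, g⟩ hg
    show chi g = 0
    rcases fx_pow g with h | h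
    · rw [chi_eq, h]
      norm_num
    · exfalso
      apply hg
      intro h3
      have h4 : (c, g) ^ 15 = 1 := by
        rw [Prod.pow_mk, h]
        have h5 : c ^ 15 = 1 := by
          obtain ⟨k, hk⟩ := hn
          have h6 : c ^ n = 1 := by
            have := pow_card_eq_one (x := c)
            rwa [card_C] at this
          rw [hk, pow_mul, h6, one_pow]
        rw [h5]
        rfl
      have h5 := h3.trans (orderOf_dvd_of_pow_eq_one h4)
      norm_num at h5)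
  refine ⟨e, ?_⟩
  have hc : Nat.card (C n × A5) = n * 60 := by
    rw [Nat.card_prod]
    congr 1
    · rw [Nat.card_eq_fintype_card, card_C]
    · rw [Nat.card_eq_fintype_card]
      (set_option synthInstance.maxSize 9000 in open scoped Cfsg.Agent.Lib.FastPerm in decide +kernel)
  rw [hc, Fintype.sum_prod_type] at he
  have h3 : ∀ c : C n, ∑ g : A5, bc 2 (MonoidHom.comp σ f) (c, g) * chi ((MonoidHom.snd (C n) A5) (c, g)⁻¹) =
      4 * P c + 20 * Q c - 24 * R c := by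
    intro c
    rw [← sum_chi (Φ := fun g => bc 2 (σ.comp f) (c, g)) (h1 c) (h2 c) (h0 c)]
    refine Finset.sum_congr rfl fun g _ => ?_
    congr 1
    show chi g⁻¹ = chi g
    rw [chi_eq, chi_eq, fx_inv]
  rw [Finset.sum_congr rfl fun c _ => h3 c] at he
  rw [he]
  push_cast
  ring

end Cfsg.Agent.H846.E72
end

-- part: H846/E72/Data
section
/-!
# Words in the Hall–Janko group on 100 points, for the row `J₂` of S5935 (TEAM E72)
-/

set_option autoImplicit false

namespace Cfsg.Agent.H846.E72.Data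

open Cfsg.Agent.J2.HundredGens Cfsg.Agent.SporadicA.J2Hundred Equiv

/-- element of class 3A -/
def wz : List ℕ := [3, 4]
/-- element of order five, commuting with `wz` -/
def wy : List ℕ := [0, 1]
/-- Carmichael generators of the `A₅` centralizing `wy` (with `wz`) -/
def wY1 : List ℕ := [0, 1, 0, 1, 2, 1, 0, 3, 2, 1, 0, 1, 2, 3, 2, 1, 3, 2, 4, 3]
def wY2 : List ℕ := [0, 1, 2, 1, 0, 1, 0, 3, 2, 1, 3, 2, 3, 2, 1, 0, 1, 2, 4, 3]
/-- Carmichael generators of the `A₅` centralizing `wz` -/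
def wX0 : List ℕ := [1, 2, 3, 2, 4, 3, 2, 1, 0, 1, 2, 3, 2, 4, 3, 2, 1, 3, 2, 3, 2, 4, 3, 2]
def wX1 : List ℕ := [2, 3, 4, 3, 2, 1, 3, 2, 1, 3, 2, 4, 3, 2, 1, 0, 1, 2, 3, 2, 4, 3, 2, 1]
def wX2 : List ℕ := [1, 0, 1, 0, 2, 3, 2, 4, 3, 2, 1, 0, 1, 2, 3, 2, 1, 4, 3, 2, 1, 3, 2, 3, 4, 3, 2]
/-- an element of order 5, which generates with its conjugates by `wX0` a group `5 ^ 2` -/
def wa : List ℕ := [1, 0, 2, 1, 3, 2, 1, 3, 2, 1]
/-- the conjugate by `wX0` -/
def wb : List ℕ := wX0 ++ wa ++ wX0.reverse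
/-- the third generator of `3 ^ (1 + 2)` -/
def ww : List ℕ := [0, 2, 3, 2, 1, 4, 3, 2, 1, 0, 3, 2, 4, 3, 2, 1, 0, 1]
/-- conjugating elements -/
def c1 : List ℕ := [1, 2, 3, 4, 3, 2, 3, 2, 1]
def c2 : List ℕ := [1, 0, 1, 2, 3, 2, 4, 3, 2, 1, 0]
def c3 : List ℕ := [0, 1, 2, 3, 2, 4, 3, 2]

theorem z3 : chk (wz ++ wz ++ wz) [] = true := by rw [Cfsg.Agent.J2Q_H846_E72_JTwo.chk_eq]; decide +kernel
theorem y5 : chk (wy ++ wy ++ wy ++ wy ++ wy) [] = true := by rw [Cfsg.Agent.J2Q_H846_E72_JTwo.chk_eq]; decide +kernel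
theorem zy : chk (wz ++ wy) (wy ++ wz) = true := by rw [Cfsg.Agent.J2Q_H846_E72_JTwo.chk_eq]; decide +kernel
theorem Y13 : chk (wY1 ++ wY1 ++ wY1) [] = true := by rw [Cfsg.Agent.J2Q_H846_E72_JTwo.chk_eq]; decide +kernel
theorem Y23 : chk (wY2 ++ wY2 ++ wY2) [] = true := by rw [Cfsg.Agent.J2Q_H846_E72_JTwo.chk_eq]; decide +kernel
theorem Y01 : chk ((wz ++ wY1) ++ (wz ++ wY1)) [] = true := by rw [Cfsg.Agent.J2Q_H846_E72_JTwo.chk_eq]; decide +kernel
theorem Y02 : chk ((wz ++ wY2) ++ (wz ++ wY2)) [] = true := by rw [Cfsg.Agent.J2Q_H846_E72_JTwo.chk_eq]; decide +kernel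
theorem Y12 : chk ((wY1 ++ wY2) ++ (wY1 ++ wY2)) [] = true := by rw [Cfsg.Agent.J2Q_H846_E72_JTwo.chk_eq]; decide +kernel
theorem yY1 : chk (wy ++ wY1) (wY1 ++ wy) = true := by rw [Cfsg.Agent.J2Q_H846_E72_JTwo.chk_eq]; decide +kernel
theorem yY2 : chk (wy ++ wY2) (wY2 ++ wy) = true := by rw [Cfsg.Agent.J2Q_H846_E72_JTwo.chk_eq]; decide +kernel
theorem X03 : chk (wX0 ++ wX0 ++ wX0) [] = true := by rw [Cfsg.Agent.J2Q_H846_E72_JTwo.chk_eq]; decide +kernel
theorem X13 : chk (wX1 ++ wX1 ++ wX1) [] = true := by rw [Cfsg.Agent.J2Q_H846_E72_JTwo.chk_eq]; decide +kernel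
theorem X23 : chk (wX2 ++ wX2 ++ wX2) [] = true := by rw [Cfsg.Agent.J2Q_H846_E72_JTwo.chk_eq]; decide +kernel
theorem X01 : chk ((wX0 ++ wX1) ++ (wX0 ++ wX1)) [] = true := by rw [Cfsg.Agent.J2Q_H846_E72_JTwo.chk_eq]; decide +kernel
theorem X02 : chk ((wX0 ++ wX2) ++ (wX0 ++ wX2)) [] = true := by rw [Cfsg.Agent.J2Q_H846_E72_JTwo.chk_eq]; decide +kernel
theorem X12 : chk ((wX1 ++ wX2) ++ (wX1 ++ wX2)) [] = true := by rw [Cfsg.Agent.J2Q_H846_E72_JTwo.chk_eq]; decide +kernel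
theorem zX0 : chk (wz ++ wX0) (wX0 ++ wz) = true := by rw [Cfsg.Agent.J2Q_H846_E72_JTwo.chk_eq]; decide +kernel
theorem zX1 : chk (wz ++ wX1) (wX1 ++ wz) = true := by rw [Cfsg.Agent.J2Q_H846_E72_JTwo.chk_eq]; decide +kernel
theorem zX2 : chk (wz ++ wX2) (wX2 ++ wz) = true := by rw [Cfsg.Agent.J2Q_H846_E72_JTwo.chk_eq]; decide +kernel
theorem X012 : chk (wX0 ++ wX1 ++ wX2) wy = true := by rw [Cfsg.Agent.J2Q_H846_E72_JTwo.chk_eq]; decide +kernel
theorem a5 : chk (wa ++ wa ++ wa ++ wa ++ wa) [] = true := by rw [Cfsg.Agent.J2Q_H846_E72_JTwo.chk_eq]; decide +kernel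
theorem ab : chk (wa ++ wb) (wb ++ wa) = true := by rw [Cfsg.Agent.J2Q_H846_E72_JTwo.chk_eq]; decide +kernel
theorem xb : chk ((wX0 ++ wb ++ wX0.reverse) ++ (wa ++ wb)) [] = true := by rw [Cfsg.Agent.J2Q_H846_E72_JTwo.chk_eq]; decide +kernel
theorem w3 : chk (ww ++ ww ++ ww) [] = true := by rw [Cfsg.Agent.J2Q_H846_E72_JTwo.chk_eq]; decide +kernel
theorem zw : chk (wz ++ ww) (ww ++ wz) = true := by rw [Cfsg.Agent.J2Q_H846_E72_JTwo.chk_eq]; decide +kernel
theorem wx : chk (ww ++ wX0 ++ ww.reverse) (wX0 ++ wz) = true := by rw [Cfsg.Agent.J2Q_H846_E72_JTwo.chk_eq]; decide +kernel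
theorem cc1 : chk (c1 ++ wX0 ++ c1.reverse) ww = true := by rw [Cfsg.Agent.J2Q_H846_E72_JTwo.chk_eq]; decide +kernel
theorem cc2 : chk (c2 ++ wX0 ++ c2.reverse) (wX0 ++ ww) = true := by rw [Cfsg.Agent.J2Q_H846_E72_JTwo.chk_eq]; decide +kernel
end Cfsg.Agent.H846.E72.Data
end

-- part: H846/E72/JTwoHom
section
/-!
# The row `J₂` of S5935 (TEAM E72): `J₂` does not act on the 56-dimensional module of `E₇(2)`

With the classes 3A (of `z`), 3B (of `x`) and the values `A`, `B` on them, `m` on the elements of order 15: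
* `5 ^ 2 : 3` : `200 + 50 B = 75 d`, `200 - 25 B = 75 e`, so `B = 2`;
* `3 ^ (1 + 2)` : `56 + 2 A + 24 B = 27 d`, so `A ∈ {2, -25}`;
* `5 × A₅`, `3 × A₅` with the character of degree four: bounds for `m`, contradiction.
-/

set_option autoImplicit false

namespace Cfsg.Agent.H846.E72

open Cfsg IsLocalRing Module Cfsg.Agent.H657 Cfsg.Agent.H943.E7V Semi AFive Data
open Cfsg.Agent.J2.HundredGens Cfsg.Agent.SporadicA.J2Hundred Cfsg.Agent.SporadicA.PermTab
open Cfsg.Agent.Lib.AltCarmichael (Rel cyc cyc_mem exists_hom swap_rel)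

/-- the model -/
abbrev J : Type := ↥Cfsg.Agent.SporadicA.J2Hundred.G

/-- the element of a word -/
noncomputable def el (L : List ℕ) : J := ⟨pw L, pw_mem L⟩

theorem el_mul (L M : List ℕ) : el L * el M = el (L ++ M) := Subtype.ext (pw_mul L M)

theorem el_inv (L : List ℕ) : (el L)⁻¹ = el L.reverse := Subtype.ext (pw_inv L)

theorem el_eq {L M : List ℕ} (h : chk L M = true) : el L = el M := Subtype.ext (pw_eq h)

theorem el_ne {L : List ℕ} (h : chk L [] = false) : el L ≠ 1 := by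
  intro h1
  have h2 : pw L = 1 := congrArg Subtype.val h1
  have h3 : chk L [] = true := by
    unfold chk
    rw [allB_iff]
    intro i hi
    have h4 := pw_val L ⟨i, hi⟩
    rw [h2] at h4
    rw [← h4]
    exact Nat.beq_refl i
  rw [h3] at h
  exact Bool.noConfusion h

/-- powers of a word -/
def rep (L : List ℕ) : ℕ → List ℕ
  | 0 => []
  | n + 1 => rep L n ++ L

theorem el_rep (L : List ℕ) (n : ℕ) : el (rep L n) = el L ^ n := by
  induction n with
  | zero => rfl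
  | succ n ih => rw [rep, ← el_mul, ih, pow_succ]

/-- the elements -/
noncomputable def z : J := el wz
/-- of order five -/
noncomputable def y : J := el wy
/-- of class 3B -/
noncomputable def x : J := el wX0
/-- of order five -/
noncomputable def a : J := el wa
/-- of order five -/
noncomputable def b : J := el wb
/-- of order three -/
noncomputable def w : J := el ww

theorem z_cube : z ^ 3 = 1 := by
  rw [pow_succ, pow_two, z, el_mul, el_mul]
  exact el_eq z3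
theorem x_cube : x ^ 3 = 1 := by
  rw [pow_succ, pow_two, x, el_mul, el_mul]
  exact el_eq X03
theorem w_cube : w ^ 3 = 1 := by
  rw [pow_succ, pow_two, w, el_mul, el_mul]
  exact el_eq w3
theorem y_five : y ^ 5 = 1 := by
  rw [pow_succ, pow_succ, pow_succ, pow_two, y, el_mul, el_mul, el_mul, el_mul]
  exact el_eq y5
theorem a_five : a ^ 5 = 1 := by
  rw [pow_succ, pow_succ, pow_succ, pow_two, a, el_mul, el_mul, el_mul, el_mul]
  exact el_eq Data.a5
theorem b_eq : b = x * a * x⁻¹ := by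
  rw [b, x, a, el_inv, el_mul, el_mul]
  rfl
theorem b_five : b ^ 5 = 1 := by
  rw [b_eq, conj_pow, a_five]
  group
theorem xb_eq : x * b * x⁻¹ = (a * b)⁻¹ := by
  rw [← mul_eq_one_iff_eq_inv, x, b, a, el_inv, el_mul, el_mul, el_mul, el_mul]
  exact el_eq Data.xb
theorem ab_comm : a * b = b * a := by
  rw [a, b, el_mul, el_mul]
  exact el_eq Data.ab
theorem zy_comm : z * y = y * z := by
  rw [z, y, el_mul, el_mul]
  exact el_eq Data.zy
theorem zw_comm : z * w = w * z := by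
  rw [z, w, el_mul, el_mul]
  exact el_eq Data.zw
theorem zx_comm : z * x = x * z := by
  rw [z, x, el_mul, el_mul]
  exact el_eq Data.zX0
theorem wx_eq : w * x * w⁻¹ = x * z := by
  rw [w, x, z, el_inv, el_mul, el_mul, el_mul]
  exact el_eq Data.wx
theorem c1_eq : el c1 * x * (el c1)⁻¹ = w := by
  rw [w, x, el_inv, el_mul, el_mul]
  exact el_eq Data.cc1
theorem c2_eq : el c2 * x * (el c2)⁻¹ = x * w := by
  rw [w, x, el_inv, el_mul, el_mul, el_mul]
  exact el_eq Data.cc2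
theorem c3_eq : el c3 * x * (el c3)⁻¹ = x * w ^ 2 := by
  rw [w, x, el_inv, el_mul, el_mul, pow_two, el_mul, el_mul, ]
  exact el_eq (by decide +kernel)

/-! ### the homomorphisms -/

theorem h1_compat (v : C 5 × C 5) : pairHom a_five b_five ab_comm (al1 v) =
    x * pairHom a_five b_five ab_comm v * x⁻¹ := by
  obtain ⟨i, j⟩ := v
  have e1 : pairHom a_five b_five ab_comm (al1 (i, j)) =
      powHom 5 a a_five j⁻¹ * powHom 5 b b_five (i * j⁻¹) := rfl
  have e2 : pairHom a_five b_five ab_comm (i, j) = powHom 5 a a_five i * powHom 5 b b_five j := rfl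
  have e3 : x * powHom 5 a a_five i * x⁻¹ = powHom 5 b b_five i := by
    rw [powHom_apply, powHom_apply, b_eq, conj_pow]
  have e4 : x * powHom 5 b b_five j * x⁻¹ = (powHom 5 a a_five j * powHom 5 b b_five j)⁻¹ := by
    rw [powHom_apply, powHom_apply, ← conj_pow, xb_eq, inv_pow, (show Commute a b from ab_comm).mul_pow]
  have e5 : x * (powHom 5 a a_five i * powHom 5 b b_five j) * x⁻¹ =
      (x * powHom 5 a a_five i * x⁻¹) * (x * powHom 5 b b_five j * x⁻¹) := by group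
  rw [e1, e2, e5, e3, e4, map_mul, map_inv, map_inv, mul_inv_rev]
  have c1 : Commute ((powHom 5 a a_five) j)⁻¹ (powHom 5 b b_five i * (powHom 5 b b_five j)⁻¹) :=
    ((commute_powHom a_five b_five ab_comm j i).mul_right
      (commute_powHom a_five b_five ab_comm j j).inv_right).inv_left
  rw [c1.eq, mul_assoc]

theorem h2_compat (v : C 3 × C 3) : pairHom x_cube z_cube zx_comm.symm (al2 v) =
    w * pairHom x_cube z_cube zx_comm.symm v * w⁻¹ := by
  obtain ⟨i, j⟩ := v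
  have e1 : pairHom x_cube z_cube zx_comm.symm (al2 (i, j)) =
      powHom 3 x x_cube i * powHom 3 z z_cube (j * i) := rfl
  have e2 : pairHom x_cube z_cube zx_comm.symm (i, j) = powHom 3 x x_cube i * powHom 3 z z_cube j := rfl
  have e3 : w * powHom 3 x x_cube i * w⁻¹ = powHom 3 x x_cube i * powHom 3 z z_cube i := by
    rw [powHom_apply, powHom_apply, ← conj_pow, wx_eq, (show Commute x z from zx_comm.symm).mul_pow]
  have e4 : w * powHom 3 z z_cube j * w⁻¹ = powHom 3 z z_cube j := by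
    rw [powHom_apply, ← conj_pow, ← zw_comm, mul_inv_cancel_right]
  have e5 : w * (powHom 3 x x_cube i * powHom 3 z z_cube j) * w⁻¹ =
      (w * powHom 3 x x_cube i * w⁻¹) * (w * powHom 3 z z_cube j * w⁻¹) := by group
  rw [e1, e2, e5, e3, e4, mul_comm j i, map_mul, mul_assoc]

/-- `5 ^ 2 : 3` -/
noncomputable def f1 : T1 →* J :=
  semiHom (pairHom a_five b_five ab_comm) al1 al1_three x x_cube h1_compat

/-- `3 ^ (1 + 2)` -/
noncomputable def f2 : T2 →* J :=
  semiHom (pairHom x_cube z_cube zx_comm.symm) al2 al2_three w w_cube h2_compat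

theorem f1_apply (i j : C 5) (k : C 3) : f1 ⟨(i, j), k⟩ =
    a ^ (i.toAdd.val) * b ^ (j.toAdd.val) * x ^ (k.toAdd.val) := rfl

theorem f2_apply (i j k : C 3) : f2 ⟨(i, j), k⟩ =
    x ^ (i.toAdd.val) * z ^ (j.toAdd.val) * w ^ (k.toAdd.val) := rfl

/-- a homomorphism from `A₅` into the centralizer -/
theorem exists_A5 {H : Type*} [Group H] (c : H) (X : ℕ → H) (hrel : Rel 3 X) (hc : ∀ i, c * X i = X i * c) :
    ∃ ψ : A5 →* H, (∀ g, c * ψ g = ψ g * c) ∧ ∀ (i : ℕ) (hi : i < 3), ψ ⟨cyc 3 i, cyc_mem 3 i hi⟩ = X i := by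
  have hm : ∀ i, X i ∈ Subgroup.centralizer ({c} : Set H) := fun i =>
    Subgroup.mem_centralizer_singleton_iff.2 (hc i).symm
  obtain ⟨φ, hφ⟩ := exists_hom (m := 3) (by norm_num) (x := fun i => (⟨X i, hm i⟩ :
    Subgroup.centralizer ({c} : Set H))) ⟨fun i hi => Subtype.ext (hrel.cube i hi),
      fun i hi j hj hij => Subtype.ext (hrel.sq i hi j hj hij)⟩
  refine ⟨(Subgroup.subtype _).comp φ, fun g => ?_, fun i hi => ?_⟩
  · exact (Subgroup.mem_centralizer_singleton_iff.1 (φ g).2).symm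
  · rw [MonoidHom.comp_apply, hφ i hi]
    rfl

/-- the product with a cyclic group -/
theorem exists_prod {H : Type*} [Group H] {n : ℕ} [NeZero n] (c : H) (hcn : c ^ n = 1) (X0 X1 X2 : H)
    (h0 : X0 ^ 3 = 1) (h1 : X1 ^ 3 = 1) (h2 : X2 ^ 3 = 1) (h01 : (X0 * X1) ^ 2 = 1) (h02 : (X0 * X2) ^ 2 = 1)
    (h12 : (X1 * X2) ^ 2 = 1) (hc0 : c * X0 = X0 * c) (hc1 : c * X1 = X1 * c) (hc2 : c * X2 = X2 * c) :
    ∃ f : C n × A5 →* H, (∀ k, f (k, 1) = c ^ (k.toAdd.val)) ∧
      (∀ k, f (k, s3) = c ^ (k.toAdd.val) * X0) ∧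
      (∀ k, f (k, s3 * s31 * s32) = c ^ (k.toAdd.val) * (X0 * X1 * X2)) ∧
      (∀ k, f (k, (s3 * s31 * s32) ^ 2) = c ^ (k.toAdd.val) * (X0 * X1 * X2) ^ 2) := by
  let X : ℕ → H := fun i => if i = 0 then X0 else if i = 1 then X1 else X2
  have hX0 : X 0 = X0 := rfl
  have hX1 : X 1 = X1 := rfl
  have hX2 : X 2 = X2 := rfl
  have hrel : Rel 3 X := by
    refine ⟨fun i hi => ?_, fun i hi j hj hij => ?_⟩
    · interval_cases i
      · exact h0
      · exact h1
      · exact h2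
    · interval_cases i <;> interval_cases j
      · exact absurd rfl hij
      · exact h01
      · exact h02
      · exact swap_rel h01
      · exact absurd rfl hij
      · exact h12
      · exact swap_rel h02
      · exact swap_rel h12
      · exact absurd rfl hij
  have hcX : ∀ i, c * X i = X i * c := by
    intro i
    show c * (if i = 0 then X0 else if i = 1 then X1 else X2) = (if i = 0 then X0 else if i = 1 then X1 else X2) * c
    split_ifs
    · exact hc0
    · exact hc1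
    · exact hc2
  obtain ⟨ψ, hψ, hs⟩ := exists_A5 c X hrel hcX
  have e0 : ψ s3 = X0 := hs 0 (by norm_num)
  have e1 : ψ s31 = X1 := hs 1 (by norm_num)
  have e2 : ψ s32 = X2 := hs 2 (by norm_num)
  have hcomm : ∀ (m : C n) (g : A5), Commute (powHom n c hcn m) (ψ g) := fun m g =>
    (show Commute c (ψ g) from hψ g).pow_left _
  have hf : ∀ k g, MonoidHom.noncommCoprod (powHom n c hcn) ψ hcomm (k, g) = c ^ (k.toAdd.val) * ψ g :=
    fun k g => rfl
  refine ⟨MonoidHom.noncommCoprod (powHom n c hcn) ψ hcomm, fun k => ?_, fun k => ?_, fun k => ?_, fun k => ?_⟩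
  · rw [hf, map_one, mul_one]
  · rw [hf, e0]
  · rw [hf, map_mul, map_mul, e0, e1, e2]
  · rw [hf, map_pow, map_mul, map_mul, e0, e1, e2]

end Cfsg.Agent.H846.E72
end

-- part: H846/E72/JTwo
section
/-!
# The row `J₂` of S5935 (TEAM E72)

Main result: `not_j2 : Spor.IsoJ2 G → ¬ Adm G`.
-/

set_option autoImplicit false

namespace Cfsg.Agent.H846.E72

open Cfsg IsLocalRing Module Cfsg.Agent.H657 Cfsg.Agent.H943.E7V Semi AFive Data
open Cfsg.Agent.J2.HundredGens

theorem sum_one {N : Type*} [Group N] [Fintype N] (F : N → ℂ) {A B : ℂ} (h1 : F 1 = A)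
    (h : ∀ c, c ≠ 1 → F c = B) : ∑ c, F c = A + (Fintype.card N - 1) * B := by
  classical
  have h2 : ∀ c, F c = (if c = 1 then A - B else 0) + B := by
    intro c
    by_cases hc : c = 1
    · rw [hc, h1, if_pos rfl]
      ring
    · rw [h c hc, if_neg hc, zero_add]
  simp only [h2, Finset.sum_add_distrib, Finset.sum_ite_eq', Finset.mem_univ, if_true, Finset.sum_const,
    Finset.card_univ, nsmul_eq_mul]
  ring

theorem x_ne : x ≠ 1 := el_ne (by decide +kernel)
theorem z_ne : z ≠ 1 := el_ne (by decide +kernel)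
theorem y_ne : y ≠ 1 := el_ne (by decide +kernel)

theorem chk_ab : ∀ i j : C 5, (i, j) ≠ 1 → chk (rep wa i.toAdd.val ++ rep wb j.toAdd.val) [] = false := by
  decide +kernel

/-- the word of the 5-cycle in the `A₅` centralizing `y` -/
def wr : List ℕ := wz ++ wY1 ++ wY2

theorem chk_yr : ∀ i : C 5, chk (rep wy i.toAdd.val ++ wr) [] = false ∧
    chk (rep wy i.toAdd.val ++ (wr ++ wr)) [] = false := by
  decide +kernel

theorem pow_five : ∀ v1 v2 : C 5, (v1, v2) ^ 5 = 1 := by decide +kernel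

theorem conj3 : ∀ i j : C 3, i ≠ 1 → ∃ k : C 3,
    ((⟨1, k⟩ : T2) * ⟨(i, 1), 1⟩ * (⟨1, k⟩ : T2)⁻¹) = ⟨(i, j), 1⟩ := by decide +kernel

theorem five_pow : ∀ g : A5, fx g = 0 → g ^ 5 = 1 := by (set_option synthInstance.maxSize 9000 in open scoped Cfsg.Agent.Lib.FastPerm in decide +kernel)

theorem C5_pow : ∀ c : C 5, c ^ 5 = 1 := by decide +kernel

theorem val_cop : ∀ c : C 5, c ≠ 1 → Nat.Coprime (6 * c.toAdd.val + 10) 15 := by decide +kernel

theorem val_cop' : ∀ c : C 3, c ≠ 1 → Nat.Coprime (10 * c.toAdd.val + 6) 15 ∧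
    Nat.Coprime (10 * c.toAdd.val + 12) 15 := by decide +kernel

theorem v5 : (Multiplicative.toAdd (1 : C 5)).val = 0 := by decide +kernel
theorem v0 : (Multiplicative.toAdd (1 : C 3)).val = 0 := by decide +kernel
theorem v1 : (Multiplicative.toAdd g1).val = 1 := by decide +kernel
theorem v2 : (Multiplicative.toAdd (g1 * g1)).val = 2 := by decide +kernel
theorem v3 : (Multiplicative.toAdd (g1⁻¹)).val = 2 := by decide +kernel

theorem f1_one : f1 ⟨1, g1⟩ = x := by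
  show f1 ⟨((1 : C 5), (1 : C 5)), g1⟩ = x
  rw [f1_apply, v5, v1, pow_zero, pow_zero, one_mul, one_mul, pow_one]

theorem f1_inv : f1 ⟨1, g1⁻¹⟩ = x ^ 2 := by
  show f1 ⟨((1 : C 5), (1 : C 5)), g1⁻¹⟩ = x ^ 2
  rw [f1_apply, v5, v3, pow_zero, pow_zero, one_mul, one_mul]

theorem f2_w : f2 ⟨1, g1⟩ = w := by
  show f2 ⟨((1 : C 3), (1 : C 3)), g1⟩ = w
  rw [f2_apply, v0, v1, pow_zero, pow_zero, one_mul, one_mul, pow_one]

theorem f2_xw : f2 ⟨(g1, 1), g1⟩ = x * w := by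
  rw [f2_apply, v0, v1, pow_zero, mul_one, pow_one, pow_one]

theorem f2_xww : f2 ⟨(g1, 1), g1 * g1⟩ = x * w ^ 2 := by
  rw [f2_apply, v0, v1, v2, pow_zero, mul_one, pow_one]

theorem f2_x : f2 ⟨(g1, 1), 1⟩ = x := by
  rw [f2_apply, v0, v1, pow_zero, mul_one, pow_one, pow_zero, mul_one]

theorem f2_xx : f2 ⟨(g1 * g1, 1), 1⟩ = x ^ 2 := by
  rw [f2_apply, v0, v2, pow_zero, mul_one, pow_zero, mul_one]

theorem f2_z : f2 ⟨(1, g1), 1⟩ = z := by
  rw [f2_apply, v0, v1, pow_zero, one_mul, pow_one, pow_zero, mul_one]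

theorem f2_zz : f2 ⟨(1, g1 * g1), 1⟩ = z ^ 2 := by
  rw [f2_apply, v0, v2, pow_zero, one_mul, pow_zero, mul_one]

theorem f2_one : f2 ⟨(1, 1), 1⟩ = 1 := by
  rw [f2_apply, v0, pow_zero, pow_zero, pow_zero, one_mul, one_mul]

set_option maxHeartbeats 4000000 in
theorem no_vals {M : Ideal AlgInt} {V : ValuationSubring ℂ} (hM : IsPModular 2 M) (hV : Above M V)
    (σ : Representation (ResidueField V) J (Fin 56 → ResidueField V)) (H : Vals σ) : False := by
  classical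
  have hconj : ∀ g h : J, bc 2 σ (h * g * h⁻¹) = bc 2 σ g := fun g h => bc_conj 2 σ g h
  have ox : orderOf x = 3 := orderOf_eq_prime x_cube x_ne
  have oz : orderOf z = 3 := orderOf_eq_prime z_cube z_ne
  have oy : orderOf y = 5 := by
    have : Fact (Nat.Prime 5) := ⟨by norm_num⟩
    exact orderOf_eq_prime y_five y_ne
  obtain ⟨B, hB⟩ : ∃ B, bc 2 σ x = B := ⟨_, rfl⟩
  obtain ⟨A, hA⟩ : ∃ A, bc 2 σ z = A := ⟨_, rfl⟩
  have hxi : bc 2 σ x⁻¹ = B := by rw [H.three_inv x ox, hB]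
  have hzi : bc 2 σ z⁻¹ = A := by rw [H.three_inv z oz, hA]
  have x2 : x ^ 2 = x⁻¹ := by rw [eq_inv_iff_mul_eq_one, ← pow_succ, x_cube]
  have z2 : z ^ 2 = z⁻¹ := by rw [eq_inv_iff_mul_eq_one, ← pow_succ, z_cube]
  have hBv := H.three x ox
  have hAv := H.three z oz
  rw [hB] at hBv
  rw [hA] at hAv
  have h5 : ∀ g : J, g ^ 5 = 1 → g ≠ 1 → bc 2 σ g = 6 := by
    intro g hg hg1
    have : Fact (Nat.Prime 5) := ⟨by norm_num⟩
    exact H.five g (orderOf_eq_prime hg hg1)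
  -- the group `5 ^ 2 : 3`
  obtain ⟨⟨d1, hd1⟩, ⟨d2, hd2⟩⟩ := semi_pos hM hV σ (N := C 5 × C 5) (A := 200) (B := B) (by decide +kernel) _ f1
    (by
      rw [sum_one (A := 56) (B := 6)]
      · have h : Fintype.card (C 5 × C 5) = 25 := by decide +kernel
        rw [h]
        norm_num
      · show bc 2 σ (f1 (1 : T1)) = 56
        rw [map_one, H.one]
      · rintro ⟨i, j⟩ hij
        apply h5
        · rw [← map_pow]
          have h : ((⟨(i, j), 1⟩ : T1)) ^ 5 = 1 := by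
            have h1 : (SemidirectProduct.inl (i, j) : T1) ^ 5 = 1 := by
              rw [← map_pow, pow_five, map_one]
            exact h1
          rw [h, map_one]
        · rw [f1_apply, toAdd_one, ZMod.val_zero, pow_zero, mul_one, a, b, ← el_rep, ← el_rep, el_mul]
          exact el_ne (chk_ab i j hij))
    (by
      rintro ⟨v1, v2⟩ k hk
      have e1 : f1 ⟨1, g1⟩ = x := f1_one
      have e2 : f1 ⟨1, g1⁻¹⟩ = x⁻¹ := f1_inv.trans x2
      obtain ⟨u1, u2, h | h⟩ := conj1 v1 v2 k hk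
      · rw [← h, inn1, map_mul, map_mul, map_inv, hconj, e1, hB]
      · rw [← h, inn1, map_mul, map_mul, map_inv, hconj, e2, hxi])
  have hc25 : Fintype.card (C 5 × C 5) = 25 := by decide +kernel
  rw [hc25] at hd1 hd2
  have hB2 : B = 2 := by
    rcases hBv with h | h | h | h
    · exact h
    · exfalso
      rw [h] at hd2
      have h1 : (d2 : ℤ) * 75 = -300 := by
        have h2 : (d2 : ℂ) * 75 = -300 := by
          push_cast at hd2
          linear_combination -hd2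
        exact_mod_cast h2
      omega
    · exfalso
      rw [h] at hd1
      have h1 : (d1 : ℤ) * 75 = -150 := by
        have h2 : (d1 : ℂ) * 75 = -150 := by
          push_cast at hd1
          linear_combination -hd1
        exact_mod_cast h2
      omega
    · exfalso
      rw [h] at hd1
      have h1 : (d1 : ℤ) * 75 = -1050 := by
        have h2 : (d1 : ℂ) * 75 = -1050 := by
          push_cast at hd1
          linear_combination -hd1
        exact_mod_cast h2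
      omega
  -- the group `3 ^ (1 + 2)`
  have hcx : ∀ c g : J, c * x * c⁻¹ = g → bc 2 σ g = B ∧ bc 2 σ g⁻¹ = B := by
    rintro c g rfl
    refine ⟨by rw [hconj, hB], ?_⟩
    rw [show (c * x * c⁻¹)⁻¹ = c * x⁻¹ * c⁻¹ by group, hconj, hxi]
  have hn1 : ∀ i j : C 3, i ≠ 1 → bc 2 σ (f2 ⟨(i, j), 1⟩) = B := by
    intro i j hi
    obtain ⟨k, hk⟩ := conj3 i j hi
    rw [← hk, map_mul, map_mul, map_inv, hconj]
    rcases C3_cases i with rfl | rfl | rfl
    · exact absurd rfl hi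
    · rw [f2_x, hB]
    · rw [f2_xx, x2, hxi]
  obtain ⟨⟨d3, hd3⟩, -⟩ := semi_pos hM hV σ (N := C 3 × C 3) (A := 56 + 2 * A + 6 * B) (B := B)
    (by decide +kernel) _ f2
    (by
      have hg1 : g1 ≠ 1 := by decide +kernel
      have hg2 : g1 * g1 ≠ 1 := by decide +kernel
      have e0 : bc 2 σ (f2 ⟨(1, 1), 1⟩) = 56 := by
        rw [f2_one, H.one]
      have e1 : bc 2 σ (f2 ⟨(1, g1), 1⟩) = A := by
        rw [f2_z, hA]
      have e2 : bc 2 σ (f2 ⟨(1, g1 * g1), 1⟩) = A := by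
        rw [f2_zz, z2, hzi]
      rw [Fintype.sum_prod_type, sum_C3, sum_C3, sum_C3, sum_C3, e0, e1, e2, hn1 _ _ hg1, hn1 _ _ hg1, hn1 _ _ hg1,
        hn1 _ _ hg2, hn1 _ _ hg2, hn1 _ _ hg2]
      ring)
    (by
      rintro ⟨v1, v2⟩ k hk
      have e1 := f2_w
      have e2 := f2_xw
      have e3 := f2_xww
      have hw := hcx _ _ c1_eq
      have hw2 := hcx _ _ c2_eq
      have hw3 := hcx _ _ c3_eq
      obtain ⟨u1, u2, h | h | h | h | h | h⟩ := conj2 v1 v2 k hk
      · rw [← h, inn2, map_mul, map_mul, map_inv, hconj, e1, hw.1]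
      · rw [← h, inn2, map_mul, map_mul, map_inv, map_inv, hconj, e1, hw.2]
      · rw [← h, inn2, map_mul, map_mul, map_inv, hconj, e2, hw2.1]
      · rw [← h, inn2, map_mul, map_mul, map_inv, map_inv, hconj, e2, hw2.2]
      · rw [← h, inn2, map_mul, map_mul, map_inv, hconj, e3, hw3.1]
      · rw [← h, inn2, map_mul, map_mul, map_inv, map_inv, hconj, e3, hw3.2])
  have hc9 : Fintype.card (C 3 × C 3) = 9 := by decide +kernel
  rw [hc9, hB2] at hd3
  have hA2 : A = 2 ∨ A = -25 := by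
    rcases hAv with h | h | h | h
    · exact Or.inl h
    · exfalso
      rw [h] at hd3
      have h1 : (d3 : ℤ) * 27 = 144 := by
        have h2 : (d3 : ℂ) * 27 = 144 := by
          push_cast at hd3
          linear_combination -hd3
        exact_mod_cast h2
      omega
    · exfalso
      rw [h] at hd3
      have h1 : (d3 : ℤ) * 27 = 90 := by
        have h2 : (d3 : ℂ) * 27 = 90 := by
          push_cast at hd3
          linear_combination -hd3
        exact_mod_cast h2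
      omega
    · exact Or.inr h
  -- elements of order 15
  have hyz : Commute y z := (show y * z = z * y from zy_comm.symm)
  have o15 : orderOf (y * z) = 15 := by
    rw [hyz.orderOf_mul_eq_mul_orderOf_of_coprime (by rw [oy, oz]; norm_num), oy, oz]
  obtain ⟨m, hm⟩ := H.fifteen (y * z) o15
  have hm' : ∀ i j : ℕ, Nat.Coprime (6 * i + 10 * j) 15 → bc 2 σ (y ^ i * z ^ j) = m := by
    intro i j hij
    rw [← hm _ hij]
    congr 1
    rw [hyz.mul_pow]
    congr 1
    · rw [show 6 * i + 10 * j = i + 5 * (i + 2 * j) by ring, pow_add, pow_mul, y_five, one_pow, mul_one]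
    · rw [show 6 * i + 10 * j = j + 3 * (2 * i + 3 * j) by ring, pow_add, pow_mul, z_cube, one_pow, mul_one]
  -- the group `5 × A₅`
  obtain ⟨f, fk1, fk3, fk5, fk25⟩ := exists_prod (n := 5) y y_five z (el wY1) (el wY2) z_cube
    (by rw [pow_succ, pow_two, el_mul, el_mul]; exact el_eq Data.Y13)
    (by rw [pow_succ, pow_two, el_mul, el_mul]; exact el_eq Data.Y23)
    (by rw [pow_two, z, el_mul, el_mul]; exact el_eq Data.Y01)
    (by rw [pow_two, z, el_mul, el_mul]; exact el_eq Data.Y02)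
    (by rw [pow_two, el_mul, el_mul]; exact el_eq Data.Y12) zy_comm.symm
    (by rw [y, el_mul, el_mul]; exact el_eq Data.yY1)
    (by rw [y, el_mul, el_mul]; exact el_eq Data.yY2)
  have hr : z * el wY1 * el wY2 = el wr := by
    rw [z, el_mul, el_mul]
    rfl
  have fconj : ∀ (c : C 5) (u g : A5), bc 2 σ (f (c, u * g * u⁻¹)) = bc 2 σ (f (c, g)) := by
    intro c u g
    have h : (c, u * g * u⁻¹) = (1, u) * (c, g) * (1, u)⁻¹ := by
      ext1
      · simp
      · rfl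
    rw [h, map_mul, map_mul, map_inv, hconj]
  obtain ⟨e, he⟩ := prod_pos hM hV (by norm_num) σ f (P := fun c => if c = 1 then 56 else 6)
    (Q := fun c => if c = 1 then A else m) (R := fun _ => 6)
    (by
      intro c
      split_ifs with hc
      · rw [hc, show ((1 : C 5), (1 : A5)) = 1 from rfl, map_one, H.one]
      · apply h5
        · rw [← map_pow, Prod.pow_mk, C5_pow, one_pow]
          exact map_one f
        · rw [fk1]
          intro h
          have h1 := orderOf_dvd_of_pow_eq_one h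
          rw [oy] at h1
          have h2 : c.toAdd.val < 5 := ZMod.val_lt _
          have h3 : c.toAdd.val = 0 := Nat.eq_zero_of_dvd_of_lt h1 h2
          apply hc
          exact (ZMod.val_eq_zero _).1 h3)
    (by
      intro c g hg
      obtain ⟨u, rfl⟩ := conj_two g hg
      rw [fconj, fk3]
      split_ifs with hc
      · rw [hc, toAdd_one, ZMod.val_zero, pow_zero, one_mul, hA]
      · have h1 := hm' c.toAdd.val 1 (by
          have := val_cop c hc
          rwa [mul_one])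
        rwa [pow_one] at h1)
    (by
      intro c g hg
      obtain ⟨u, h | h⟩ := conj_zero g hg
      · apply h5
        · rw [← map_pow, Prod.pow_mk, C5_pow, five_pow g hg]
          exact map_one f
        · rw [← h]
          intro h0
          have h1 : f (c, s3 * s31 * s32) = 1 := by
            have h2 : (c, u * (s3 * s31 * s32) * u⁻¹) = (1, u) * (c, s3 * s31 * s32) * (1, u)⁻¹ := by
              ext1
              · simp
              · rfl
            rw [h2, map_mul, map_mul, map_inv, mul_inv_eq_one, mul_eq_left] at h0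
            exact h0
          rw [fk5, hr, y, ← el_rep, el_mul] at h1
          exact el_ne (chk_yr c).1 h1
      · apply h5
        · rw [← map_pow, Prod.pow_mk, C5_pow, five_pow g hg]
          exact map_one f
        · rw [← h]
          intro h0
          have h1 : f (c, (s3 * s31 * s32) ^ 2) = 1 := by
            have h2 : (c, u * (s3 * s31 * s32) ^ 2 * u⁻¹) = (1, u) * (c, (s3 * s31 * s32) ^ 2) * (1, u)⁻¹ := by
              ext1
              · simp
              · rfl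
            rw [h2, map_mul, map_mul, map_inv, mul_inv_eq_one, mul_eq_left] at h0
            exact h0
          rw [fk25, hr, pow_two, el_mul, y, ← el_rep, el_mul] at h1
          exact el_ne (chk_yr c).2 h1)
  -- the group `3 × A₅`
  obtain ⟨f', gk1, gk3, gk5, gk25⟩ := exists_prod (n := 3) z z_cube x (el wX1) (el wX2) x_cube
    (by rw [pow_succ, pow_two, el_mul, el_mul]; exact el_eq Data.X13)
    (by rw [pow_succ, pow_two, el_mul, el_mul]; exact el_eq Data.X23)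
    (by rw [pow_two, x, el_mul, el_mul]; exact el_eq Data.X01)
    (by rw [pow_two, x, el_mul, el_mul]; exact el_eq Data.X02)
    (by rw [pow_two, el_mul, el_mul]; exact el_eq Data.X12) zx_comm
    (by rw [z, el_mul, el_mul]; exact el_eq Data.zX1)
    (by rw [z, el_mul, el_mul]; exact el_eq Data.zX2)
  have hr' : x * el wX1 * el wX2 = y := by
    rw [x, el_mul, el_mul, y]
    exact el_eq Data.X012
  have gconj : ∀ (c : C 3) (u g : A5), bc 2 σ (f' (c, u * g * u⁻¹)) = bc 2 σ (f' (c, g)) := by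
    intro c u g
    have h : (c, u * g * u⁻¹) = (1, u) * (c, g) * (1, u)⁻¹ := by
      ext1
      · simp
      · rfl
    rw [h, map_mul, map_mul, map_inv, hconj]
  have hy2 : bc 2 σ (y ^ 2) = 6 := by
    apply h5
    · rw [← pow_mul, mul_comm, pow_mul, y_five, one_pow]
    · intro h
      have := orderOf_dvd_of_pow_eq_one h
      rw [oy] at this
      norm_num at this
  obtain ⟨e', he'⟩ := prod_pos hM hV (by norm_num) σ f' (P := fun c => if c = 1 then 56 else A)
    (Q := fun _ => B) (R := fun c => if c = 1 then 6 else m)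
    (by
      intro c
      rw [gk1]
      rcases C3_cases c with rfl | rfl | rfl
      · rw [if_pos rfl, toAdd_one, ZMod.val_zero, pow_zero, H.one]
      · rw [if_neg (by decide +kernel), v1, pow_one, hA]
      · rw [if_neg (by decide +kernel), v2, z2, hzi])
    (by
      intro c g hg
      obtain ⟨u, rfl⟩ := conj_two g hg
      rw [gconj, gk3]
      have hw1 : w * x * w⁻¹ = z * x := by rw [wx_eq, zx_comm]
      rcases C3_cases c with rfl | rfl | rfl
      · rw [toAdd_one, ZMod.val_zero, pow_zero, one_mul, hB]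
      · rw [v1, pow_one, ← hw1, hconj, hB]
      · rw [v2]
        have h1 : z ^ 2 * x = w * (z * x) * w⁻¹ := by
          have h2 : w * (z * x) * w⁻¹ = (w * z * w⁻¹) * (w * x * w⁻¹) := by group
          rw [h2, hw1, ← zw_comm, mul_inv_cancel_right, pow_two, mul_assoc]
        rw [h1, hconj, ← hw1, hconj, hB])
    (by
      intro c g hg
      obtain ⟨u, h | h⟩ := conj_zero g hg
      · rw [← h, gconj, gk5, hr']
        split_ifs with hc
        · rw [hc, toAdd_one, ZMod.val_zero, pow_zero, one_mul]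
          exact H.five y oy
        · have h1 := hm' 1 c.toAdd.val (by
            have := (val_cop' c hc).1
            rwa [mul_one, add_comm])
          rw [pow_one, (hyz.pow_right _).eq] at h1
          exact h1
      · rw [← h, gconj, gk25, hr']
        split_ifs with hc
        · rw [hc, toAdd_one, ZMod.val_zero, pow_zero, one_mul, hy2]
        · have h1 := hm' 2 c.toAdd.val (by
            have := (val_cop' c hc).2
            rwa [show 6 * 2 = 12 by norm_num, add_comm])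
          rw [(hyz.pow_pow _ _).eq] at h1
          exact h1)
  -- arithmetic
  have hc3 : ((3 : ℕ) : ℂ) = 3 := by norm_num
  have hc5 : ((5 : ℕ) : ℂ) = 5 := by norm_num
  rw [sum_one (A := 4 * 56 + 20 * A - 24 * 6) (B := 4 * 6 + 20 * m - 24 * 6) _ (by simp)
    (by intro c hc; simp [hc]), card_C, hc5] at he
  rw [sum_one (A := 4 * 56 + 20 * B - 24 * 6) (B := 4 * A + 20 * B - 24 * m) _ (by simp)
    (by intro c hc; simp [hc]), card_C, hc3, hB2] at he'
  rcases hA2 with h | h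
  · rw [h] at he he'
    have h1 : (80 * m - 360 : ℤ) = e * 300 := by
      have h2 : (80 * m - 360 : ℂ) = e * 300 := by linear_combination he
      exact_mod_cast h2
    have h3 : (216 - 48 * m : ℤ) = e' * 180 := by
      have h2 : (216 - 48 * m : ℂ) = e' * 180 := by linear_combination he'
      exact_mod_cast h2
    omega
  · rw [h] at he he'
    have h1 : (80 * m - 900 : ℤ) = e * 300 := by
      have h2 : (80 * m - 900 : ℂ) = e * 300 := by linear_combination he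
      exact_mod_cast h2
    have h3 : (0 - 48 * m : ℤ) = e' * 180 := by
      have h2 : (0 - 48 * m : ℂ) = e' * 180 := by linear_combination he'
      exact_mod_cast h2
    omega

/-- **The row `J₂`.** -/
theorem not_j2 {G : Type*} [Group G] (h : Cfsg.Spor.IsoJ2 G) : ¬ Adm G := by
  intro hG
  obtain ⟨e⟩ := h
  obtain ⟨f⟩ := J2_iso Cfsg.Agent.S1619.result.2.2.2
  have hJ : Adm J := hG.comap (e.trans f).symm.toMonoidHom (e.trans f).symm.injective
  obtain ⟨M, V, hM, hV, σ, H⟩ := hJ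
  exact no_vals hM hV σ H

end Cfsg.Agent.H846.E72
end

private theorem dce_ee5c573ffeb8 : _root_.True := by
  try have : _root_.True := by simp only [_root_.Cfsg.Agent.H846.E72.z.eq_1]
  try have : _root_.True := by simp only [_root_.Cfsg.Agent.H846.E72.rep.eq_1]
  try have : _root_.True := by simp only [_root_.Cfsg.Agent.H846.E72.a.eq_1]
  try have : _root_.True := by simp only [_root_.Cfsg.Agent.H846.E72.Semi.powHom.congr_simp]
  try have : _root_.True := by simp only [_root_.Cfsg.Agent.H846.E72.Semi.inn2.eq_1]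
  try have : _root_.True := by simp only [_root_.Cfsg.Agent.H846.E72.rep.eq_def]
  try have : _root_.True := by simp only [_root_.Cfsg.Agent.H846.E72.b.eq_1]
  try have : _root_.True := by simp only [_root_.Cfsg.Agent.H846.E72.rep.eq_2]
  try have : _root_.True := by simp only [_root_.Cfsg.Agent.H846.E72.y.eq_1]
  try have : _root_.True := by simp only [_root_.Cfsg.Agent.H846.E72.x.eq_1]
  try have : _root_.True := by simp only [_root_.Cfsg.Agent.H846.E72.w.eq_1]
  try have : _root_.True := by simp only [_root_.Cfsg.Agent.H846.E72.Semi.inn1.eq_1]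
  exact _root_.True.intro
end

-- part: H248/E7U/Main_mg
section
prune_inst 0x180010000000200000000000000000000001000100404020008000082000000000000020000000000000000000000000000000000000200000000080080104000000000000000000000000000000000000000000000000000000000
set_option linter.all false
open scoped Cfsg.Agent.FastGrp

-- part: H248/E7U/Core
section
/-!
# `U₄(3)` is not contained in `E₇(2)`: the argument (S5935; helper248)

`Q = 3⁴`, the orthogonal space of minus type over the field of three elements. The values of the 56-dimensional module at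
its three classes are `2`, `20`, `20` and the fixed spaces of `Q`, `z^⊥` and `z` (`z` singular) have dimension 16, 20, 20.
Hence `V^z` is the fixed space of every conjugate of `z^⊥` by an element of the centralizer of `z`, and `V^Q` is fixed by an
element `y` of order 5 acting on `Q`. But the fixed space of `Q⟨y⟩` has dimension 8.
-/

set_option autoImplicit false

namespace Cfsg.Agent.H248.E7U

open Cfsg IsLocalRing Module Cfsg.Agent.H657 Cfsg.Agent.H943.E7V

attribute [local instance] Above.isAlgClosed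

/-- the group of order three -/
abbrev A : Type := Multiplicative (ZMod 3)

/-- the group of order 81 -/
abbrev E : Type := A × A × A × A

/-- the quadratic form -/
def ty (e : E) : ZMod 3 :=
  e.1.toAdd * e.2.2.2.toAdd + e.2.1.toAdd ^ 2 + 2 * e.2.1.toAdd * e.2.2.1.toAdd + 2 * e.2.2.1.toAdd ^ 2

/-- generator -/
def a : A := Multiplicative.ofAdd 1

/-- the data -/
structure Dat (S : Type*) [Group S] where
  /-- the elementary abelian group -/
  f : E →* S
  inj : Function.Injective f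
  conj : ∀ e e' : E, e ≠ 1 → e' ≠ 1 → ty e = ty e' → ∃ g : S, g * f e * g⁻¹ = f e'
  /-- first conjugating element -/
  g₁ : S
  /-- second conjugating element -/
  g₂ : S
  h₁ : ∃ e, g₁ * f (a, 1, 1, 1) * g₁⁻¹ = f e
  h₂ : ∃ e, g₂ * f (a, 1, 1, 1) * g₂⁻¹ = f e
  /-- first element -/
  k₁ : A × A × A
  /-- second element -/
  k₂ : A × A × A
  hy : (g₁ * f (k₁.1, k₁.2.1, k₁.2.2, 1) * g₁⁻¹ * (g₂ * f (k₂.1, k₂.2.1, k₂.2.2, 1) * g₂⁻¹)) ^ 5 = 1
  hn : ∀ e, ∃ e', g₁ * f (k₁.1, k₁.2.1, k₁.2.2, 1) * g₁⁻¹ * (g₂ * f (k₂.1, k₂.2.1, k₂.2.2, 1) * g₂⁻¹) * f e =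
    f e' * (g₁ * f (k₁.1, k₁.2.1, k₁.2.2, 1) * g₁⁻¹ * (g₂ * f (k₂.1, k₂.2.1, k₂.2.2, 1) * g₂⁻¹))
  hc : ∀ e, e ≠ 1 → g₁ * f (k₁.1, k₁.2.1, k₁.2.2, 1) * g₁⁻¹ * (g₂ * f (k₂.1, k₂.2.1, k₂.2.2, 1) * g₂⁻¹) * f e ≠
    f e * (g₁ * f (k₁.1, k₁.2.1, k₁.2.2, 1) * g₁⁻¹ * (g₂ * f (k₂.1, k₂.2.1, k₂.2.2, 1) * g₂⁻¹))

/-! ### Frobenius groups -/

section frob

variable {S : Type*} [Group S]

theorem exists_mul {P : Subgroup S} {y : S} (hN : y ∈ Subgroup.normalizer (P : Set S)) {g : S}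
    (hg : g ∈ P ⊔ Subgroup.zpowers y) : ∃ x ∈ P, ∃ k : ℤ, g = x * y ^ k := by
  have hle : Subgroup.zpowers y ≤ Subgroup.normalizer (P : Set S) := by
    rw [Subgroup.zpowers_le]
    exact hN
  have h1 : g ∈ ((P ⊔ Subgroup.zpowers y : Subgroup S) : Set S) := hg
  rw [Subgroup.coe_mul_of_right_le_normalizer_left _ _ hle, Set.mem_mul] at h1
  obtain ⟨x, hx, z, hz, rfl⟩ := h1
  obtain ⟨k, rfl⟩ := Subgroup.mem_zpowers_iff.1 hz
  exact ⟨x, hx, k, rfl⟩

theorem card_mul {P : Subgroup S} {y : S} (hN : y ∈ Subgroup.normalizer (P : Set S))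
    (hd : Disjoint P (Subgroup.zpowers y)) :
    Nat.card ↥(P ⊔ Subgroup.zpowers y) = Nat.card P * Nat.card (Subgroup.zpowers y) := by
  have h1 : Function.Bijective (fun g : P × Subgroup.zpowers y => (⟨g.1 * g.2, Subgroup.mul_mem _
      (Subgroup.mem_sup_left g.1.2) (Subgroup.mem_sup_right g.2.2)⟩ : ↥(P ⊔ Subgroup.zpowers y))) := by
    constructor
    · intro g g' h
      exact Subgroup.mul_injective_of_disjoint hd (congrArg Subtype.val h)
    · rintro ⟨g, hg⟩
      obtain ⟨x, hx, k, rfl⟩ := exists_mul hN hg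
      exact ⟨(⟨x, hx⟩, ⟨y ^ k, k, rfl⟩), rfl⟩
  rw [← Nat.card_eq_of_bijective _ h1, Nat.card_prod]

/-- an element outside the kernel has order 5 -/
theorem pow5 {P : Subgroup S} {y : S} (hN : y ∈ Subgroup.normalizer (P : Set S)) (hy5 : y ^ 5 = 1)
    (hab : ∀ x ∈ P, ∀ x' ∈ P, x * x' = x' * x)
    (hyc : ∀ x ∈ P, y * x = x * y → x = 1) {g : S} (hg : g ∈ P ⊔ Subgroup.zpowers y) (hgP : g ∉ P) : g ^ 5 = 1 := by
  obtain ⟨x, hx, k, rfl⟩ := exists_mul hN hg
  have hyk : y ^ k ∈ Subgroup.normalizer (P : Set S) := Subgroup.zpow_mem _ hN k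
  have h1 : ∀ n : ℕ, ∃ u ∈ P, (x * y ^ k) ^ n = u * (y ^ k) ^ n := by
    intro n
    induction n with
    | zero => exact ⟨1, P.one_mem, by simp⟩
    | succ n ih =>
      obtain ⟨u, hu, h2⟩ := ih
      refine ⟨x * (y ^ k * u * (y ^ k)⁻¹), P.mul_mem hx ((Subgroup.mem_normalizer_iff.1 hyk u).1 hu), ?_⟩
      rw [pow_succ', h2, pow_succ' (y ^ k) n]
      group
  obtain ⟨c, hc, h2⟩ := h1 5
  have h3 : (y ^ k) ^ 5 = 1 := by
    rw [← zpow_natCast, ← zpow_mul, mul_comm, zpow_mul, zpow_natCast, hy5, one_zpow]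
  rw [h3, mul_one] at h2
  rw [h2]
  have h4 : c * (x * y ^ k) = x * y ^ k * c := by
    rw [← h2]
    exact ((Commute.refl (x * y ^ k)).pow_left 5).eq
  have h5 : c * y ^ k = y ^ k * c := by
    have : x * (c * y ^ k) = x * (y ^ k * c) := by
      rw [← mul_assoc, hab x hx c hc, mul_assoc, h4, mul_assoc]
    exact mul_left_cancel this
  have h6 : ¬ (5 : ℤ) ∣ k := by
    rintro ⟨l, rfl⟩
    apply hgP
    rw [zpow_mul, show (5 : ℤ) = ((5 : ℕ) : ℤ) from rfl, zpow_natCast, hy5, one_zpow, mul_one]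
    exact hx
  have h7 : ∃ m : ℤ, (y ^ k) ^ m = y := by
    have h8 : IsCoprime k 5 := by
      have h9 : Prime (5 : ℤ) := by norm_num
      exact ((Prime.coprime_iff_not_dvd h9).2 h6).symm
    obtain ⟨m, n, hmn⟩ := h8
    refine ⟨m, ?_⟩
    rw [← zpow_mul]
    have h10 : k * m = 1 - 5 * n := by linarith
    rw [h10, zpow_sub, zpow_one, zpow_mul, show (5 : ℤ) = ((5 : ℕ) : ℤ) from rfl, zpow_natCast, hy5, one_zpow,
      inv_one, mul_one]
  obtain ⟨m, hm⟩ := h7
  apply hyc c hc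
  have h8 : Commute (y ^ k) c := h5.symm
  have h9 := h8.zpow_left m
  rw [hm] at h9
  exact h9.eq

end frob

/-! ### The values -/

theorem arith {x₀ x₁ x₂ : ℤ} {d₄ d₃ d₁ dB dC : ℕ} (h₀ : x₀ = 2 ∨ x₀ = 20 ∨ x₀ = -7 ∨ x₀ = -25)
    (h₁ : x₁ = 2 ∨ x₁ = 20 ∨ x₁ = -7 ∨ x₁ = -25) (h₂ : x₂ = 2 ∨ x₂ = 20 ∨ x₂ = -7 ∨ x₂ = -25)
    (e₄ : 56 + 20 * x₀ + 30 * x₁ + 30 * x₂ = 81 * (d₄ : ℤ)) (e₃ : 56 + 2 * x₀ + 12 * x₁ + 12 * x₂ = 27 * (d₃ : ℤ))
    (e₁ : 56 + 2 * x₀ = 3 * (d₁ : ℤ)) (eB : 56 + 2 * x₀ + 6 * x₁ = 9 * (dB : ℤ))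
    (eC : 56 + 2 * x₀ + 6 * x₂ = 9 * (dC : ℤ)) (lB : d₄ ≤ dB) (lC : d₄ ≤ dC) :
    x₀ = 2 ∧ x₁ = 20 ∧ x₂ = 20 ∧ d₄ = 16 ∧ d₃ = 20 ∧ d₁ = 20 := by
  rcases h₀ with rfl | rfl | rfl | rfl <;> rcases h₁ with rfl | rfl | rfl | rfl <;>
    rcases h₂ with rfl | rfl | rfl | rfl <;> (clear * - e₄ lB eB eC e₁ e₃ lC; omega)

/-- representatives -/
def rp (i : ZMod 3) : E := if i = 0 then (a, 1, 1, 1) else if i = 1 then (1, a, 1, 1) else (1, 1, a, 1)

theorem rp_ty : ∀ i, ty (rp i) = i ∧ rp i ≠ 1 := by decide +kernel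

theorem E_pow (e : E) : e ^ 3 = 1 := by
  revert e
  decide +kernel

/-- the value at an element -/
def val (x : ZMod 3 → ℤ) (e : E) : ℤ := if e = 1 then 56 else x (ty e)

theorem val_eq (x : ZMod 3 → ℤ) (e : E) : val x e = 56 * (if e = 1 then 1 else 0) +
    x 0 * (if e ≠ 1 ∧ ty e = 0 then 1 else 0) + x 1 * (if e ≠ 1 ∧ ty e = 1 then 1 else 0) +
    x 2 * (if e ≠ 1 ∧ ty e = 2 then 1 else 0) := by
  have h3 : ∀ j : ZMod 3, j = 0 ∨ j = 1 ∨ j = 2 := by decide
  have h01 : (0 : ZMod 3) ≠ 1 := by decide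
  have h02 : (0 : ZMod 3) ≠ 2 := by decide
  have h12 : (1 : ZMod 3) ≠ 2 := by decide
  unfold val
  by_cases he : e = 1
  · simp [he]
  · rcases h3 (ty e) with h | h | h <;> simp only [he, h, h01, h02, h12, h01.symm, h02.symm, h12.symm, ↓ _root_.reduceIte, _root_.MulZeroClass.mul_zero, _root_.ne_eq, _root_.not_false_eq_true, _root_.and_self, _root_.mul_one, _root_.zero_add, _root_.and_false, _root_.add_zero]

theorem sum_val {K : Type*} [Fintype K] (x : ZMod 3 → ℤ) (i : K → E) {n₀ n₁ n₂ : ℤ}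
    (h : (∑ k, if i k = 1 then (1 : ℤ) else 0) = 1) (h₀ : (∑ k, if i k ≠ 1 ∧ ty (i k) = 0 then (1 : ℤ) else 0) = n₀)
    (h₁ : (∑ k, if i k ≠ 1 ∧ ty (i k) = 1 then (1 : ℤ) else 0) = n₁)
    (h₂ : (∑ k, if i k ≠ 1 ∧ ty (i k) = 2 then (1 : ℤ) else 0) = n₂) :
    ∑ k, val x (i k) = 56 + n₀ * x 0 + n₁ * x 1 + n₂ * x 2 := by
  rw [Finset.sum_congr rfl fun k _ => val_eq x (i k), Finset.sum_add_distrib, Finset.sum_add_distrib,
    Finset.sum_add_distrib, ← Finset.mul_sum, ← Finset.mul_sum, ← Finset.mul_sum, ← Finset.mul_sum, h, h₀, h₁, h₂]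
  ring

/-- the subgroup `z^⊥` -/
def i₃ : A × A × A →* E where
  toFun k := (k.1, k.2.1, k.2.2, 1)
  map_one' := rfl
  map_mul' k l := by simp

/-- the subgroup `⟨z⟩` -/
def i₁ : A →* E where
  toFun k := (k, 1, 1, 1)
  map_one' := rfl
  map_mul' k l := by simp

/-- the first plane -/
def iB : A × A →* E where
  toFun k := (k.1, k.2, 1, 1)
  map_one' := rfl
  map_mul' k l := by simp

/-- the second plane -/
def iC : A × A →* E where
  toFun k := (k.1, 1, k.2, 1)
  map_one' := rfl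
  map_mul' k l := by simp

section main

variable {M : Ideal AlgInt} {V : ValuationSubring ℂ} {S : Type*} [Group S]

theorem dimF (hM : IsPModular 2 M) (hV : Above M V)
    (σ : Representation (ResidueField V) S (Fin 56 → ResidueField V)) {K : Type*} [Group K] [Fintype K]
    (hK : (Fintype.card K).Coprime 2) (f : K →* S) :
    ∑ k, bc 2 σ (f k) = (Fintype.card K : ℂ) *
      (Module.finrank (ResidueField V) (Representation.invariants (σ.comp f)) : ℂ) :=
  H597.BrInv.C hM hV hK (σ.comp f)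

theorem inv_le (σ : Representation (ResidueField V) S (Fin 56 → ResidueField V)) {K L : Type*} [Group K] [Group L]
    (f : K →* S) (i : L →* K) : Representation.invariants (σ.comp f) ≤ Representation.invariants (σ.comp (f.comp i)) := by
  intro w hw
  rw [Representation.mem_invariants] at hw ⊢
  intro g
  exact hw (i g)

variable (D : Dat S)

theorem exists_val (σ : Representation (ResidueField V) S (Fin 56 → ResidueField V)) (H : Vals σ) :
    ∃ x : ZMod 3 → ℤ, (∀ i, x i = 2 ∨ x i = 20 ∨ x i = -7 ∨ x i = -25) ∧ ∀ e, bc 2 σ (D.f e) = val x e := by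
  have ho : ∀ e : E, e ≠ 1 → orderOf (D.f e) = 3 := by
    intro e he
    refine orderOf_eq_prime (by rw [← map_pow, E_pow, map_one]) fun h => he ?_
    rw [← map_one D.f] at h
    exact D.inj h
  have h1 : ∀ i : ZMod 3, ∃ z : ℤ, (z = 2 ∨ z = 20 ∨ z = -7 ∨ z = -25) ∧ bc 2 σ (D.f (rp i)) = z := by
    intro i
    rcases H.three _ (ho _ (rp_ty i).2) with h | h | h | h
    · exact ⟨2, by norm_num, by rw [h]; norm_num⟩
    · exact ⟨20, by norm_num, by rw [h]; norm_num⟩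
    · exact ⟨-7, by norm_num, by rw [h]; norm_num⟩
    · exact ⟨-25, by norm_num, by rw [h]; norm_num⟩
  choose x hx1 hx2 using h1
  refine ⟨x, hx1, fun e => ?_⟩
  unfold val
  split_ifs with he
  · rw [he, map_one, H.one]
    norm_num
  · obtain ⟨g, hg⟩ := D.conj e (rp (ty e)) he (rp_ty _).2 (rp_ty _).1.symm
    rw [← hx2, ← hg, bc_conj]

theorem dimE (hM : IsPModular 2 M) (hV : Above M V)
    (σ : Representation (ResidueField V) S (Fin 56 → ResidueField V)) {x : ZMod 3 → ℤ}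
    (hx : ∀ e, bc 2 σ (D.f e) = val x e) {K : Type*} [Group K] [Fintype K]
    (hK : (Fintype.card K).Coprime 2) (i : K →* E) {n₀ n₁ n₂ : ℤ}
    (h : (∑ k, if i k = 1 then (1 : ℤ) else 0) = 1) (h₀ : (∑ k, if i k ≠ 1 ∧ ty (i k) = 0 then (1 : ℤ) else 0) = n₀)
    (h₁ : (∑ k, if i k ≠ 1 ∧ ty (i k) = 1 then (1 : ℤ) else 0) = n₁)
    (h₂ : (∑ k, if i k ≠ 1 ∧ ty (i k) = 2 then (1 : ℤ) else 0) = n₂) :
    56 + n₀ * x 0 + n₁ * x 1 + n₂ * x 2 = (Fintype.card K : ℤ) *
      (Module.finrank (ResidueField V) (Representation.invariants (σ.comp (D.f.comp i))) : ℤ) := by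
  have h3 := dimF hM hV σ hK (D.f.comp i)
  have h4 : ∑ k, bc 2 σ ((D.f.comp i) k) = ((∑ k, val x (i k) : ℤ) : ℂ) := by
    push_cast
    exact Finset.sum_congr rfl fun k _ => hx (i k)
  rw [h4, sum_val x i h h₀ h₁ h₂] at h3
  exact_mod_cast h3

/-- the stabilizer of a vector -/
def St (σ : Representation (ResidueField V) S (Fin 56 → ResidueField V)) (w : Fin 56 → ResidueField V) : Subgroup S where
  carrier := {g | σ g w = w}
  one_mem' := by simp only [_root_.Set.mem_ofPred_eq, _root_.map_one, _root_.Module.End.one_apply]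
  mul_mem' {g h} hg hh := by
    have hg' : σ g w = w := hg
    have hh' : σ h w = w := hh
    change σ (g * h) w = w
    rw [map_mul, Module.End.mul_apply, hh', hg']
  inv_mem' {g} hg := by
    have hg' : σ g w = w := hg
    change σ g⁻¹ w = w
    conv_lhs => rw [← hg']
    rw [← Module.End.mul_apply, ← map_mul, inv_mul_cancel, map_one, Module.End.one_apply]

theorem mem_St {σ : Representation (ResidueField V) S (Fin 56 → ResidueField V)} {w : Fin 56 → ResidueField V} {g : S} :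
    g ∈ St σ w ↔ σ g w = w := Iff.rfl

theorem A_pow (k : A) : k = a ^ k.toAdd.val := by
  revert k
  decide +kernel

/-- the conjugates of `z^⊥` fix `V^Q` -/
theorem fix_conj (σ : Representation (ResidueField V) S (Fin 56 → ResidueField V))
    (heq : Representation.invariants (σ.comp (D.f.comp i₁)) = Representation.invariants (σ.comp (D.f.comp i₃)))
    {g : S} (hg : ∃ e, g * D.f (a, 1, 1, 1) * g⁻¹ = D.f e) {w : Fin 56 → ResidueField V}
    (hw : ∀ e, D.f e ∈ St σ w) (k : A × A × A) : g * D.f (i₃ k) * g⁻¹ ∈ St σ w := by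
  obtain ⟨e, he⟩ := hg
  have h1 : σ g⁻¹ w ∈ Representation.invariants (σ.comp (D.f.comp i₁)) := by
    rw [Representation.mem_invariants]
    intro c
    have h2 : i₁ c = (a, 1, 1, 1) ^ c.toAdd.val := by
      have h3 : i₁ a = (a, 1, 1, 1) := rfl
      rw [← h3, ← map_pow, ← A_pow]
    have h3 : g * D.f (i₁ c) * g⁻¹ = D.f (e ^ c.toAdd.val) := by
      rw [h2, map_pow, map_pow, ← he, conj_pow]
    have h4 : D.f (i₁ c) * g⁻¹ = g⁻¹ * D.f (e ^ c.toAdd.val) := by
      rw [← h3]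
      group
    change σ (D.f (i₁ c)) (σ g⁻¹ w) = σ g⁻¹ w
    rw [← Module.End.mul_apply, ← map_mul, h4, map_mul, Module.End.mul_apply, mem_St.1 (hw _)]
  rw [heq, Representation.mem_invariants] at h1
  have h2 : σ (D.f (i₃ k)) (σ g⁻¹ w) = σ g⁻¹ w := h1 k
  rw [mem_St, map_mul, map_mul, Module.End.mul_apply, Module.End.mul_apply, h2, ← Module.End.mul_apply, ← map_mul,
    mul_inv_cancel, map_one, Module.End.one_apply]

include D in
theorem main : ¬ Adm S := by
  classical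
  rintro ⟨M, V, hM, hV, σ, H⟩
  obtain ⟨x, hx, hv⟩ := exists_val D σ H
  have e₄ := dimE D hM hV σ hv (K := E) (by decide) (MonoidHom.id E) (n₀ := 20) (n₁ := 30) (n₂ := 30)
    (by decide +kernel) (by decide +kernel) (by decide +kernel) (by decide +kernel)
  have e₃ := dimE D hM hV σ hv (by decide) i₃ (n₀ := 2) (n₁ := 12) (n₂ := 12)
    (by decide +kernel) (by decide +kernel) (by decide +kernel) (by decide +kernel)
  have e₁ := dimE D hM hV σ hv (by decide) i₁ (n₀ := 2) (n₁ := 0) (n₂ := 0)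
    (by decide +kernel) (by decide +kernel) (by decide +kernel) (by decide +kernel)
  have eB := dimE D hM hV σ hv (by decide) iB (n₀ := 2) (n₁ := 6) (n₂ := 0)
    (by decide +kernel) (by decide +kernel) (by decide +kernel) (by decide +kernel)
  have eC := dimE D hM hV σ hv (by decide) iC (n₀ := 2) (n₁ := 0) (n₂ := 6)
    (by decide +kernel) (by decide +kernel) (by decide +kernel) (by decide +kernel)
  have c₄ : Fintype.card E = 81 := by decide
  have c₃ : Fintype.card (A × A × A) = 27 := by decide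
  have c₂ : Fintype.card (A × A) = 9 := by decide
  have c₁ : Fintype.card A = 3 := by decide
  rw [c₄] at e₄
  rw [c₃] at e₃
  rw [c₂] at eB eC
  rw [c₁] at e₁
  have hid : D.f.comp (MonoidHom.id E) = D.f := MonoidHom.comp_id _
  rw [hid] at e₄
  have lB := Submodule.finrank_mono (inv_le σ D.f iB)
  have lC := Submodule.finrank_mono (inv_le σ D.f iC)
  simp only [Nat.cast_ofNat, zero_mul, add_zero] at e₄ e₃ e₁ eB eC
  obtain ⟨r₀, r₁, r₂, d₄, d₃, d₁⟩ := arith (hx 0) (hx 1) (hx 2) e₄ e₃ e₁ eB eC lB lC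
  have heq : Representation.invariants (σ.comp (D.f.comp i₃)) = Representation.invariants (σ.comp (D.f.comp i₁)) := by
    refine Submodule.eq_of_le_of_finrank_eq ?_ (d₃.trans d₁.symm)
    intro w hw
    rw [Representation.mem_invariants] at hw ⊢
    intro c
    exact hw (c, 1, 1)
  -- the element of order five
  set y : S := D.g₁ * D.f (D.k₁.1, D.k₁.2.1, D.k₁.2.2, 1) * D.g₁⁻¹ *
    (D.g₂ * D.f (D.k₂.1, D.k₂.2.1, D.k₂.2.2, 1) * D.g₂⁻¹) with hydef
  have hp5 : Fact (Nat.Prime 5) := ⟨by norm_num⟩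
  have hy5 : y ^ 5 = 1 := D.hy
  have hn : ∀ e, ∃ e', y * D.f e = D.f e' * y := D.hn
  have hc : ∀ e, e ≠ 1 → y * D.f e ≠ D.f e * y := D.hc
  have hyfix : ∀ w, (∀ e, D.f e ∈ St σ w) → y ∈ St σ w := fun w hw =>
    (St σ w).mul_mem (fix_conj D σ heq.symm D.h₁ hw D.k₁) (fix_conj D σ heq.symm D.h₂ hw D.k₂)
  set P : Subgroup S := D.f.range with hP
  have hyN : y ∈ Subgroup.normalizer (P : Set S) := by
    have h1 : ∀ u ∈ P, y * u * y⁻¹ ∈ P := by
      rintro _ ⟨e, rfl⟩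
      obtain ⟨e', he'⟩ := hn e
      rw [he', mul_inv_cancel_right]
      exact ⟨e', rfl⟩
    have hfin : Finite P := Set.finite_range D.f
    have hinj : Function.Injective (fun u : P => (⟨y * u * y⁻¹, h1 u u.2⟩ : P)) := by
      intro u u' h
      have := congrArg Subtype.val h
      simp only [mul_left_inj, mul_right_inj] at this
      exact Subtype.ext this
    have hsurj := Finite.surjective_of_injective hinj
    rw [Subgroup.mem_normalizer_iff]
    intro u
    refine ⟨fun hu => h1 u hu, fun hu => ?_⟩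
    obtain ⟨u', hu'⟩ := hsurj ⟨_, hu⟩
    have := congrArg Subtype.val hu'
    simp only [mul_left_inj, mul_right_inj] at this
    rw [← this]
    exact u'.2
  have hyc : ∀ u ∈ P, y * u = u * y → u = 1 := by
    rintro _ ⟨e, rfl⟩ h
    by_contra h1
    exact hc e (fun h2 => h1 (by rw [h2, map_one])) h
  have hab : ∀ u ∈ P, ∀ u' ∈ P, u * u' = u' * u := by
    rintro _ ⟨e, rfl⟩ _ ⟨e', rfl⟩
    rw [← map_mul, ← map_mul, mul_comm]
  have hy1 : y ≠ 1 := by
    intro h
    refine hc (a, 1, 1, 1) (by decide) ?_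
    rw [h, one_mul, mul_one]
  have hyo : orderOf y = 5 := orderOf_eq_prime hy5 hy1
  have hd : Disjoint P (Subgroup.zpowers y) := by
    rw [Subgroup.disjoint_def]
    intro u hu hu2
    obtain ⟨k, rfl⟩ := Subgroup.mem_zpowers_iff.1 hu2
    exact hyc _ hu ((Commute.refl y).zpow_right k).eq
  have hPc : Nat.card P = 81 := by
    rw [← Nat.card_congr (MonoidHom.ofInjective D.inj).toEquiv, Nat.card_eq_fintype_card, c₄]
  have hNc : Nat.card ↥(P ⊔ Subgroup.zpowers y) = 405 := by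
    rw [card_mul hyN hd, hPc, Nat.card_zpowers, hyo]
  have hfinN : Finite ↥(P ⊔ Subgroup.zpowers y) := Nat.finite_of_card_ne_zero (by rw [hNc]; norm_num)
  have := Fintype.ofFinite ↥(P ⊔ Subgroup.zpowers y)
  have hNc' : Fintype.card ↥(P ⊔ Subgroup.zpowers y) = 405 := by rw [← Nat.card_eq_fintype_card, hNc]
  have h6 := dimF hM hV σ (by rw [hNc']; decide) (P ⊔ Subgroup.zpowers y).subtype
  rw [hNc'] at h6
  -- the sum
  have h7 : ∑ e : E, (bc 2 σ (D.f e) - 6) = ∑ g : ↥(P ⊔ Subgroup.zpowers y), (bc 2 σ (g : S) - 6) := by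
    refine Finset.sum_of_injOn (fun e => ⟨D.f e, Subgroup.mem_sup_left ⟨e, rfl⟩⟩) ?_ ?_ ?_ ?_
    · intro e _ e' _ h
      exact D.inj (congrArg Subtype.val h)
    · intro e _
      exact Finset.mem_coe.2 (Finset.mem_univ _)
    · rintro ⟨g, hg⟩ _ hgi
      have hgP : g ∉ P := by
        rintro ⟨e, rfl⟩
        exact hgi ⟨e, Finset.mem_coe.2 (Finset.mem_univ _), rfl⟩
      have h8 := pow5 hyN hy5 hab hyc hg hgP
      have h9 : orderOf g = 5 := orderOf_eq_prime h8 fun h => hgP (by rw [h]; exact P.one_mem)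
      rw [H.five g h9, sub_self]
    · intro e _
      rfl
  have h8 := dimF hM hV σ (by rw [c₄]; decide) D.f
  rw [c₄, d₄] at h8
  rw [Finset.sum_sub_distrib, Finset.sum_sub_distrib, Finset.sum_const, Finset.sum_const, Finset.card_univ,
    Finset.card_univ, c₄, hNc', h8] at h7
  have h9 : (Module.finrank (ResidueField V)
      (Representation.invariants (σ.comp (P ⊔ Subgroup.zpowers y).subtype)) : ℂ) = 8 := by
    have h10 : ∑ g : ↥(P ⊔ Subgroup.zpowers y), bc 2 σ (g : S) = (405 : ℕ) *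
      (Module.finrank (ResidueField V) (Representation.invariants (σ.comp (P ⊔ Subgroup.zpowers y).subtype)) : ℂ) := h6
    rw [h10] at h7
    simp only [nsmul_eq_mul] at h7
    push_cast at h7
    linear_combination (-1 / 405 : ℂ) * h7
  have h10 : Module.finrank (ResidueField V)
      (Representation.invariants (σ.comp (P ⊔ Subgroup.zpowers y).subtype)) = 8 := by exact_mod_cast h9
  have h11 : Representation.invariants (σ.comp D.f) ≤
      Representation.invariants (σ.comp (P ⊔ Subgroup.zpowers y).subtype) := by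
    intro w hw
    rw [Representation.mem_invariants] at hw ⊢
    have h12 : ∀ e, D.f e ∈ St σ w := fun e => hw e
    have h13 : P ⊔ Subgroup.zpowers y ≤ St σ w := by
      rw [sup_le_iff, Subgroup.zpowers_le]
      refine ⟨?_, hyfix w h12⟩
      rintro _ ⟨e, rfl⟩
      exact h12 e
    intro g
    exact h13 g.2
  have h12 := Submodule.finrank_mono h11
  (clear * - e₄ e₃ lC eC r₀ r₁ h10 h12; omega)

end main

end Cfsg.Agent.H248.E7U
end

-- part: H248/E7U/Data
section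
/-!
# `U₄(3)` is not contained in `E₇(2)`: words in the permutation model (S5935; helper248)
-/

set_option autoImplicit false
set_option maxRecDepth 100000

namespace Cfsg.Agent.H248.E7U

open Cfsg.Agent.Omega.ML.UFour.Data (ok eqw eq3)
open Cfsg.Agent.Omega.ML.UFour.Perm (wd wd_nil wd_append eqw_spec eq3_of_eq ok_append psu_iso)
open Cfsg.Agent.SporadicStructure.U43Perm (K0)

/-- generators of `3⁴` -/
def w₀ : List ℕ := [7, 2, 9]
@[inherit_doc w₀] def w₁ : List ℕ := [0, 3, 8, 0, 3, 6, 1, 0]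
@[inherit_doc w₀] def w₂ : List ℕ := [2, 3, 7, 9, 0, 8, 8, 0, 2]
@[inherit_doc w₀] def w₃ : List ℕ := [9, 8, 2, 3]

/-- the power of a word -/
def rp' (n : ℕ) (w : List ℕ) : List ℕ := (List.replicate n w).flatten

/-- the words of the elements of `3⁴` -/
def qw (e : E) : List ℕ :=
  rp' e.1.toAdd.val w₀ ++ (rp' e.2.1.toAdd.val w₁ ++ (rp' e.2.2.1.toAdd.val w₂ ++ rp' e.2.2.2.toAdd.val w₃))

/-- representatives of the classes -/
def rw' (i : ZMod 3) : List ℕ := if i = 0 then [7, 2, 9] else if i = 1 then [7, 2, 9, 2, 2] else [2, 2]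

/-- conjugating words -/
def cwl : List (List ℕ) :=
  [[], [8, 2], [2], [4, 0, 7, 0, 6], [3, 6, 2, 0, 6], [0, 2, 4, 1, 0], [4, 0, 7, 0, 4], [2, 8, 6, 0, 6],
   [0, 4, 2, 4, 0], [0, 2, 1, 0, 0], [9, 3, 0, 2, 3], [2, 6, 0, 8, 7], [6, 0, 7, 0, 4], [3, 2, 0, 4],
   [3, 2, 1, 0, 6], [3, 9, 0, 2, 1, 0, 0], [0, 9, 0, 8], [1, 0, 9, 0, 8, 2], [8, 0, 8, 2, 0],
   [2, 6, 0, 2, 3], [0, 4, 2, 0, 0], [1, 3, 9, 0, 2, 1, 0, 0], [2, 0, 3, 0, 8], [0, 9, 0, 8, 2],
   [6, 0, 7, 0, 6], [3, 2, 1, 0, 4], [3, 2, 0, 6], [], [2], [], [2, 3, 2, 0, 6], [0, 9, 0, 3],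
   [2, 8, 6, 0, 4], [9, 6, 2, 0, 6], [8, 2, 0, 2], [3, 6, 2, 0, 4], [6, 0, 8, 7], [6, 0, 2, 3], [6, 0, 3, 2],
   [9, 2, 0, 4], [3, 1, 0, 6, 0], [9, 2, 0, 4], [4, 0, 2, 3], [4, 0, 3, 8], [4, 0, 9, 4], [6, 1, 0, 8, 7],
   [6, 1, 0, 2, 3], [6, 1, 0, 3, 2], [0, 3, 0, 8, 2], [4, 1, 0, 3, 8], [8, 0, 2, 0], [8, 6, 0, 4],
   [3, 0, 6, 0], [8, 6, 0, 4], [7, 3], [6, 4], [], [9, 6, 2, 0, 4], [0, 4, 2, 4, 0], [0, 3, 0, 3],
   [0, 4, 2, 0, 0], [2, 3, 2, 0, 4], [0, 9, 0, 7], [0, 2, 4, 1, 0], [4, 2, 0, 0, 0], [2, 6, 0, 2, 3],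
   [8, 6, 0, 6], [3, 2, 0, 4], [7, 3, 0, 2], [0, 3, 0, 8], [8, 4, 0, 9], [0, 2, 1, 0, 0], [6, 0, 2, 3],
   [0, 3, 0, 2], [6, 0, 3, 8], [4, 0, 8, 7], [4, 0, 3, 2], [4, 0, 2, 3], [9, 2, 0, 6], [9, 2, 0, 6],
   [7, 3, 1, 0, 2]]

/-- the conjugating word of an element -/
def cw (e : E) : List ℕ :=
  cwl.getD (27 * e.1.toAdd.val + 9 * e.2.1.toAdd.val + 3 * e.2.2.1.toAdd.val + e.2.2.2.toAdd.val) []

/-- the element of order 5 -/
def yw : List ℕ := [3, 1, 0, 3, 2, 3, 2, 0, 0]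
/-- its factors -/
def uw : List ℕ := [9, 0, 8, 4, 2, 0, 8]
@[inherit_doc uw] def vw : List ℕ := [0, 8, 9, 0, 7, 2, 8]

/-- the action of the element of order 5 -/
def me (e : E) : E := (Multiplicative.ofAdd (e.1.toAdd + e.2.1.toAdd + e.2.2.1.toAdd + 2 * e.2.2.2.toAdd),
  Multiplicative.ofAdd (2 * e.1.toAdd + 2 * e.2.2.1.toAdd + 2 * e.2.2.2.toAdd),
  Multiplicative.ofAdd (e.1.toAdd + e.2.1.toAdd + 2 * e.2.2.1.toAdd + 2 * e.2.2.2.toAdd),
  Multiplicative.ofAdd (2 * e.1.toAdd + 2 * e.2.1.toAdd + 2 * e.2.2.2.toAdd))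

theorem ok_all : (∀ e : E, ok (qw e) = true) ∧ ok yw = true := by decide +kernel
theorem chk3 : eqw (rp' 3 w₀) [] = true ∧ eqw (rp' 3 w₁) [] = true ∧ eqw (rp' 3 w₂) [] = true ∧
    eqw (rp' 3 w₃) [] = true := by decide +kernel
theorem chkc : eqw (w₀ ++ w₁) (w₁ ++ w₀) = true ∧ eqw (w₀ ++ w₂) (w₂ ++ w₀) = true ∧ eqw (w₀ ++ w₃) (w₃ ++ w₀) = true ∧
    eqw (w₁ ++ w₂) (w₂ ++ w₁) = true ∧ eqw (w₁ ++ w₃) (w₃ ++ w₁) = true ∧ eqw (w₂ ++ w₃) (w₃ ++ w₂) = true := by
  decide +kernel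
theorem chki : ∀ e : E, e ≠ 1 → eq3 (qw e) [] = false := by decide +kernel
private noncomputable def _root_.Cfsg.Agent.LsF.f842bf0_0 : {f // @Cfsg.Agent.Omega.ML.UFour.Data.ok = f} := ⟨_, by first | (delta Cfsg.Agent.Omega.ML.UFour.Data.ok; rewrite [Cfsg.Agent.LsF.all_eq]; exact rfl) | exact rfl⟩
private noncomputable def _root_.Cfsg.Agent.LsF.f842bf0_1 : {f // @Cfsg.Agent.SporadicStructure.PermChain.look = f} := ⟨_, by first | (delta Cfsg.Agent.SporadicStructure.PermChain.look; rewrite [Cfsg.Agent.LsF.nmul_pat, Cfsg.Agent.LsF.nmod_pat, Cfsg.Agent.LsF.npow_pat, Cfsg.Agent.LsF.nshr_pat]; exact rfl) | exact rfl⟩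
private noncomputable def _root_.Cfsg.Agent.LsF.f842bf0_2 : {f // @Cfsg.Agent.SporadicStructure.PermChain.evalWord = f} := ⟨_, by first | (delta Cfsg.Agent.SporadicStructure.PermChain.evalWord List.brecOn List.brecOn.go Cfsg.Agent.SporadicStructure.PermChain.evalWord._f; rewrite [Cfsg.Agent.LsF.f842bf0_1.2, Cfsg.Agent.LsF.getD_eq]; (try delta Cfsg.Agent.SporadicStructure.PermChain.evalWord.match_1); (try delta List.casesOn); first | dsimp -zeta only | exact rfl) | exact rfl⟩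
private noncomputable def _root_.Cfsg.Agent.LsF.f842bf0_3 : {f // @Cfsg.Agent.Omega.ML.UFour.Data.eq3 = f} := ⟨_, by first | (delta Cfsg.Agent.Omega.ML.UFour.Data.eq3; rewrite [Cfsg.Agent.LsF.f842bf0_2.2, Cfsg.Agent.LsF.and_eq]; exact rfl) | exact rfl⟩
private noncomputable def _root_.Cfsg.Agent.LsF.f842bf0_4 : {f // @Cfsg.Agent.Omega.ML.UFour.Data.eqw = f} := ⟨_, by first | (delta Cfsg.Agent.Omega.ML.UFour.Data.eqw; rewrite [Cfsg.Agent.LsF.f842bf0_0.2, Cfsg.Agent.LsF.f842bf0_3.2, Cfsg.Agent.LsF.and_eq]; exact rfl) | exact rfl⟩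
private noncomputable def _root_.Cfsg.Agent.LsF.f842bf0_5 : {f // @Cfsg.Agent.H248.E7U.cw = f} := ⟨_, by first | (delta Cfsg.Agent.H248.E7U.cw; rewrite [Cfsg.Agent.LsF.nadd_pat, Cfsg.Agent.LsF.nmul_pat, Cfsg.Agent.LsF.zval_eq, Cfsg.Agent.LsF.getD_eq]; exact rfl) | exact rfl⟩
private noncomputable def _root_.Cfsg.Agent.LsF.f842bf0_6 : {f // @Cfsg.Agent.H248.E7U.rw' = f} := ⟨_, by first | (delta Cfsg.Agent.H248.E7U.rw'; rewrite [Cfsg.Agent.LsF.zdecEq_eq, Cfsg.Agent.LsF.ite_eq]; exact rfl) | exact rfl⟩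
private noncomputable def _root_.Cfsg.Agent.LsF.f842bf0_7 : {f // @Cfsg.Agent.H248.E7U.ty = f} := ⟨_, by first | (delta Cfsg.Agent.H248.E7U.ty; rewrite [Cfsg.Agent.LsF.zadd_pat, Cfsg.Agent.LsF.zmul_pat]; exact rfl) | exact rfl⟩
private noncomputable def _root_.Cfsg.Agent.LsF.f842bf0_8 : {f // @Cfsg.Agent.H248.E7U.rp' = f} := ⟨_, by first | (delta Cfsg.Agent.H248.E7U.rp'; rewrite [Cfsg.Agent.LsF.flatten_eq, Cfsg.Agent.LsF.replicate_eq]; exact rfl) | exact rfl⟩
private noncomputable def _root_.Cfsg.Agent.LsF.f842bf0_9 : {f // @Cfsg.Agent.H248.E7U.qw = f} := ⟨_, by first | (delta Cfsg.Agent.H248.E7U.qw; rewrite [Cfsg.Agent.LsF.f842bf0_8.2, Cfsg.Agent.LsF.lappend_pat, Cfsg.Agent.LsF.zval_eq]; exact rfl) | exact rfl⟩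
theorem chkj : ∀ e : E, e ≠ 1 → eqw (cw e ++ rw' (ty e)) (qw e ++ cw e) = true := by (refine of_decide_eq_true ?_; (try (rewrite [Cfsg.Agent.LsF.f842bf0_4.2, Cfsg.Agent.LsF.f842bf0_5.2, Cfsg.Agent.LsF.f842bf0_6.2, Cfsg.Agent.LsF.f842bf0_7.2, Cfsg.Agent.LsF.f842bf0_9.2, Cfsg.Agent.LsF.lappend_pat, Cfsg.Agent.LsF.zdecEq_eq, Cfsg.Agent.LsF.dProdEq_eq, Cfsg.Agent.LsF.zFintype_eq, Cfsg.Agent.LsF.prodFintype_eq, Cfsg.Agent.LsF.dForall_eq, Cfsg.Agent.LsF.dNot_eq, Cfsg.Agent.LsF.dBoolEq_eq, Cfsg.Agent.LsF.dAllP_eq, Cfsg.Agent.LsF.decide_eq])); decide +kernel)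
theorem chky : eqw (rp' 5 yw) [] = true ∧ eqw (uw ++ vw) yw = true := by decide +kernel
private noncomputable def _root_.Cfsg.Agent.LsF.f842bf0_10 : {f // @Cfsg.Agent.H248.E7U.me = f} := ⟨_, by first | (delta Cfsg.Agent.H248.E7U.me; rewrite [Cfsg.Agent.LsF.zadd_pat, Cfsg.Agent.LsF.zmul_pat]; exact rfl) | exact rfl⟩
theorem chkn : ∀ e : E, eqw (yw ++ qw e) (qw (me e) ++ yw) = true := by (refine of_decide_eq_true ?_; (try (rewrite [Cfsg.Agent.LsF.f842bf0_4.2, Cfsg.Agent.LsF.f842bf0_9.2, Cfsg.Agent.LsF.f842bf0_10.2, Cfsg.Agent.LsF.lappend_pat, Cfsg.Agent.LsF.zFintype_eq, Cfsg.Agent.LsF.prodFintype_eq, Cfsg.Agent.LsF.dForall_eq, Cfsg.Agent.LsF.dBoolEq_eq, Cfsg.Agent.LsF.decide_eq])); decide +kernel)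
theorem chkf : ∀ e : E, e ≠ 1 → eq3 (yw ++ qw e) (qw e ++ yw) = false := by (refine of_decide_eq_true ?_; (try (rewrite [Cfsg.Agent.LsF.f842bf0_3.2, Cfsg.Agent.LsF.f842bf0_9.2, Cfsg.Agent.LsF.lappend_pat, Cfsg.Agent.LsF.zdecEq_eq, Cfsg.Agent.LsF.dProdEq_eq, Cfsg.Agent.LsF.zFintype_eq, Cfsg.Agent.LsF.prodFintype_eq, Cfsg.Agent.LsF.dForall_eq, Cfsg.Agent.LsF.dNot_eq, Cfsg.Agent.LsF.dBoolEq_eq, Cfsg.Agent.LsF.dAllP_eq, Cfsg.Agent.LsF.decide_eq])); decide +kernel)
theorem chku : eqw ([8, 2] ++ qw (1, a, 1, 1)) (uw ++ [8, 2]) = true ∧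
    eqw ([7, 3] ++ qw (1, a, a * a, 1)) (vw ++ [7, 3]) = true := by decide +kernel
theorem chkg : eqw ([8, 2] ++ w₀) (qw (1, 1, 1, a) ++ [8, 2]) = true ∧
    eqw ([7, 3] ++ w₀) (qw (a * a, 1, 1, 1) ++ [7, 3]) = true := by decide +kernel

end Cfsg.Agent.H248.E7U
end

-- part: H248/E7U/Main
section
/-!
# `U₄(3)` is not contained in `E₇(2)` (S5935, task T2; helper248)
-/

set_option autoImplicit false
set_option maxRecDepth 100000

namespace Cfsg.Agent.H248.E7U

open Cfsg Cfsg.Agent.H943.E7V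
open Cfsg.Agent.Omega.ML.UFour.Data (ok eqw eq3)
open Cfsg.Agent.Omega.ML.UFour.Perm (wd wd_nil wd_append eqw_spec eq3_of_eq ok_append psu_iso)
open Cfsg.Agent.SporadicStructure.U43Perm (K0)

/-- powers of an element of order 3 -/
def pw {S : Type*} [Group S] (x : S) (hx : x ^ 3 = 1) : A →* S where
  toFun k := x ^ k.toAdd.val
  map_one' := by simp
  map_mul' k l := by
    change x ^ (k.toAdd + l.toAdd).val = _
    rw [← pow_add, ZMod.val_add, ← pow_eq_pow_mod _ hx]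

theorem pw_apply {S : Type*} [Group S] (x : S) (hx : x ^ 3 = 1) (k : A) : pw x hx k = x ^ k.toAdd.val := rfl

theorem pw_comm {S : Type*} [Group S] {x y : S} (hx : x ^ 3 = 1) (hy : y ^ 3 = 1) (h : x * y = y * x) (k l : A) :
    Commute (pw x hx k) (pw y hy l) := by
  have h1 : Commute x y := h
  exact (h1.pow_left _).pow_right _

/-- the homomorphism of four commuting elements of order 3 -/
def hom {S : Type*} [Group S] (x₀ x₁ x₂ x₃ : S) (h₀ : x₀ ^ 3 = 1) (h₁ : x₁ ^ 3 = 1) (h₂ : x₂ ^ 3 = 1) (h₃ : x₃ ^ 3 = 1)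
    (c₀₁ : x₀ * x₁ = x₁ * x₀) (c₀₂ : x₀ * x₂ = x₂ * x₀) (c₀₃ : x₀ * x₃ = x₃ * x₀) (c₁₂ : x₁ * x₂ = x₂ * x₁)
    (c₁₃ : x₁ * x₃ = x₃ * x₁) (c₂₃ : x₂ * x₃ = x₃ * x₂) : E →* S :=
  (pw x₀ h₀).noncommCoprod ((pw x₁ h₁).noncommCoprod ((pw x₂ h₂).noncommCoprod (pw x₃ h₃) (pw_comm h₂ h₃ c₂₃))
    (fun k l => by
      rw [MonoidHom.noncommCoprod_apply]
      exact (pw_comm h₁ h₂ c₁₂ _ _).mul_right (pw_comm h₁ h₃ c₁₃ _ _)))
    (fun k l => by
      rw [MonoidHom.noncommCoprod_apply, MonoidHom.noncommCoprod_apply]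
      exact (pw_comm h₀ h₁ c₀₁ _ _).mul_right ((pw_comm h₀ h₂ c₀₂ _ _).mul_right (pw_comm h₀ h₃ c₀₃ _ _)))

theorem wd_rp (n : ℕ) (w : List ℕ) : wd (rp' n w) = wd w ^ n := by
  unfold rp'
  induction n with
  | zero => rw [List.replicate_zero, List.flatten_nil, wd_nil, pow_zero]
  | succ n ih => rw [List.replicate_succ, List.flatten_cons, wd_append, ih, pow_succ']

theorem pow3 {w : List ℕ} (h : eqw (rp' 3 w) [] = true) : wd w ^ 3 = 1 := by
  rw [← wd_rp, eqw_spec h, wd_nil]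

theorem cm {u v : List ℕ} (h : eqw (u ++ v) (v ++ u) = true) : wd u * wd v = wd v * wd u := by
  rw [← wd_append, ← wd_append, eqw_spec h]

/-- the elementary abelian group -/
noncomputable def F : E →* K0 :=
  hom (wd w₀) (wd w₁) (wd w₂) (wd w₃) (pow3 chk3.1) (pow3 chk3.2.1) (pow3 chk3.2.2.1) (pow3 chk3.2.2.2)
    (cm chkc.1) (cm chkc.2.1) (cm chkc.2.2.1) (cm chkc.2.2.2.1) (cm chkc.2.2.2.2.1) (cm chkc.2.2.2.2.2)

theorem F_eq (e : E) : F e = wd (qw e) := by
  unfold F hom qw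
  rw [MonoidHom.noncommCoprod_apply, MonoidHom.noncommCoprod_apply, MonoidHom.noncommCoprod_apply, pw_apply, pw_apply,
    pw_apply, pw_apply, wd_append, wd_append, wd_append, wd_rp, wd_rp, wd_rp, wd_rp]

theorem F_a : F (a, 1, 1, 1) = wd w₀ := by
  rw [F_eq]
  congr 1

theorem conj_eq {g u v : List ℕ} (h : eqw (g ++ u) (v ++ g) = true) : wd g * wd u * (wd g)⁻¹ = wd v := by
  have h1 := eqw_spec h
  rw [wd_append, wd_append] at h1
  rw [h1, mul_inv_cancel_right]

theorem y_eq : wd [8, 2] * F (1, a, 1, 1) * (wd [8, 2])⁻¹ * (wd [7, 3] * F (1, a, a * a, 1) * (wd [7, 3])⁻¹) = wd yw := by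
  rw [F_eq, F_eq, conj_eq chku.1, conj_eq chku.2, ← wd_append, eqw_spec chky.2]

/-- the data -/
noncomputable def D : Dat K0 where
  f := F
  inj := by
    rw [injective_iff_map_eq_one]
    intro e he
    by_contra h
    have h1 := chki e h
    rw [F_eq, ← wd_nil] at he
    rw [eq3_of_eq (ok_all.1 e) rfl he] at h1
    exact absurd h1 (by decide)
  conj e e' he he' ht := by
    refine ⟨wd (cw e') * (wd (cw e))⁻¹, ?_⟩
    have h1 := eqw_spec (chkj e he)
    have h2 := eqw_spec (chkj e' he')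
    rw [wd_append, wd_append] at h1 h2
    rw [F_eq, F_eq]
    have h3 : (wd (cw e))⁻¹ * wd (qw e) * wd (cw e) = wd (rw' (ty e)) := by
      rw [mul_assoc, ← h1, inv_mul_cancel_left]
    calc wd (cw e') * (wd (cw e))⁻¹ * wd (qw e) * (wd (cw e') * (wd (cw e))⁻¹)⁻¹
        = wd (cw e') * ((wd (cw e))⁻¹ * wd (qw e) * wd (cw e)) * (wd (cw e'))⁻¹ := by group
      _ = wd (qw e') := by rw [h3, ht, h2, mul_inv_cancel_right]
  g₁ := wd [8, 2]
  g₂ := wd [7, 3]
  h₁ := ⟨(1, 1, 1, a), by rw [F_a, F_eq, conj_eq chkg.1]⟩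
  h₂ := ⟨(a * a, 1, 1, 1), by rw [F_a, F_eq, conj_eq chkg.2]⟩
  k₁ := (1, a, 1)
  k₂ := (1, a, a * a)
  hy := by
    change (wd [8, 2] * F (1, a, 1, 1) * (wd [8, 2])⁻¹ * (wd [7, 3] * F (1, a, a * a, 1) * (wd [7, 3])⁻¹)) ^ 5 = 1
    rw [y_eq, ← wd_rp, eqw_spec chky.1, wd_nil]
  hn e := by
    change ∃ e', wd [8, 2] * F (1, a, 1, 1) * (wd [8, 2])⁻¹ * (wd [7, 3] * F (1, a, a * a, 1) * (wd [7, 3])⁻¹) * F e =
      F e' * (wd [8, 2] * F (1, a, 1, 1) * (wd [8, 2])⁻¹ * (wd [7, 3] * F (1, a, a * a, 1) * (wd [7, 3])⁻¹))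
    rw [y_eq]
    exact ⟨me e, by rw [F_eq, F_eq, ← wd_append, ← wd_append, eqw_spec (chkn e)]⟩
  hc e he := by
    change wd [8, 2] * F (1, a, 1, 1) * (wd [8, 2])⁻¹ * (wd [7, 3] * F (1, a, a * a, 1) * (wd [7, 3])⁻¹) * F e ≠
      F e * (wd [8, 2] * F (1, a, 1, 1) * (wd [8, 2])⁻¹ * (wd [7, 3] * F (1, a, a * a, 1) * (wd [7, 3])⁻¹))
    rw [y_eq]
    intro h
    rw [F_eq, ← wd_append, ← wd_append] at h
    have h1 := chkf e he
    rw [eq3_of_eq (ok_append ok_all.2 (ok_all.1 e)) (ok_append (ok_all.1 e) ok_all.2) h] at h1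
    exact absurd h1 (by decide)

theorem not_K0 : ¬ Adm K0 := main D

/-- **`U₄(3)` is not admissible** -/
theorem not_psu43 {F : Type*} [Field F] [Fintype F] (hF : Fintype.card F = 9) : ¬ Adm (PSU 4 F 3) := by
  intro h
  obtain ⟨f⟩ := psu_iso hF
  exact not_K0 (h.comap f.symm.toMonoidHom f.symm.injective)

end Cfsg.Agent.H248.E7U
end

-- part: H299/E7V/GTwo
section
/-!
# `G₂(3)` is not a subgroup of `E₇(2)` (S5935, task T3)

* `fix` : the fixed space formula for a finite set of elements closed under products, of odd cardinality;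
* `main_abs` : the contradiction from the four subgroups `3^{1+2}` (short), `3^{1+2}` (long), `3^3`, `3^4`;
* `not_chevG2_three`.
-/

set_option autoImplicit false
set_option linter.unusedSectionVars false

namespace Cfsg.Agent.H299.E7V

open Cfsg IsLocalRing Module Cfsg.Agent.H657 Cfsg.Agent.H943.E7V
open Cfsg.Agent.H240.GThree

universe u

/-- **The dimension of the fixed space.** -/
theorem fix {M : Ideal AlgInt} {V : ValuationSubring ℂ} (hM : IsPModular 2 M) (hV : Above M V) {G : Type u} [Group G]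
    [Finite G] (σ : Representation (ResidueField V) G (Fin 56 → ResidueField V)) {ι : Type*} [Fintype ι] (f : ι → G)
    (hf : Function.Injective f) (hmul : ∀ i j, ∃ k, f i * f j = f k) (h1 : ∃ i, f i = 1)
    (hodd : Odd (Fintype.card ι)) :
    ∃ d : ℕ, d ≤ 56 ∧ ∑ i, bc 2 σ (f i) = (d : ℂ) * Fintype.card ι := by
  classical
  have hpow : ∀ i, ∀ n : ℕ, f i ^ n ∈ Set.range f := by
    intro i n
    induction n with
    | zero => rw [pow_zero]; obtain ⟨j, hj⟩ := h1; exact ⟨j, hj⟩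
    | succ n ih =>
      obtain ⟨j, hj⟩ := ih
      obtain ⟨k, hk⟩ := hmul j i
      exact ⟨k, by rw [pow_succ, ← hj, hk]⟩
  let K : Subgroup G :=
    { carrier := Set.range f
      mul_mem' := by
        rintro x y ⟨i, rfl⟩ ⟨j, rfl⟩
        obtain ⟨k, hk⟩ := hmul i j
        exact ⟨k, hk.symm⟩
      one_mem' := h1
      inv_mem' := by
        rintro x ⟨i, rfl⟩
        have h2 : (f i)⁻¹ = f i ^ (orderOf (f i) - 1) := by
          rw [inv_eq_iff_mul_eq_one, ← pow_succ', Nat.sub_add_cancel (orderOf_pos _), pow_orderOf_eq_one]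
        rw [h2]
        exact hpow i _ }
  let e : ι ≃ K := Equiv.ofInjective f hf
  have : Fintype K := Fintype.ofEquiv ι e
  have hcard : Fintype.card K = Fintype.card ι := (Fintype.card_congr e).symm
  obtain ⟨d, hd, he⟩ := Cfsg.Agent.H102.E7V.pos_holds hM hV (σ.comp K.subtype)
    (CharDeep.LinearChar.isIrrCharacter_of_hom (1 : K →* ℂˣ)) (by
    intro g hg
    exfalso
    apply hg
    intro h2
    have h4 := h2.trans (orderOf_dvd_natCard g)
    rw [Nat.card_eq_fintype_card, hcard] at h4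
    exact (Nat.not_even_iff_odd.2 hodd) (even_iff_two_dvd.2 h4))
  refine ⟨d, hd, ?_⟩
  rw [← hcard, he]
  simp only [MonoidHom.one_apply, Units.val_one, one_mul, mul_one]
  exact (Fintype.sum_equiv e _ _ fun i => rfl)

/-- a sum by classes -/
theorem sum_cls {ι : Type*} [Fintype ι] {n : ℕ} (cls : ι → Fin n) (v : Fin n → ℤ) :
    ∑ i, v (cls i) = ∑ k, ((Finset.univ.filter fun i => cls i = k).card : ℤ) * v k := by
  classical
  rw [← Finset.sum_fiberwise Finset.univ cls (fun i => v (cls i))]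
  refine Finset.sum_congr rfl fun k _ => ?_
  rw [Finset.sum_congr rfl (g := fun _ => v k) (fun i hi => by rw [(Finset.mem_filter.1 hi).2]), Finset.sum_const,
    nsmul_eq_mul]

/-- the classes in the group `{NF (b, 0, c, d, 0, 0)}` -/
def cls1 (u : ZMod 3 × ZMod 3 × ZMod 3) : Fin 6 :=
  if u.1 = 0 ∧ u.2.1 = 0 ∧ u.2.2 = 0 then 0 else
    if u.1 = 0 ∨ u.2.1 = 0 then 1 else
      if u.1 = 1 ∧ u.2.1 = 1 then 2 else
        if u.1 = 1 then 3 else
          if u.2.1 = 1 then 4 else 5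

theorem cls1_card : ∀ k, (Finset.univ.filter fun i => cls1 i = k).card = ![1, 14, 3, 3, 3, 3] k := by
  decide +kernel

/-- the classes in `3^3` -/
def cls3 (u : ZMod 3 × ZMod 3 × ZMod 3) : Fin 4 :=
  if u.1 = 0 ∧ u.2.1 = 0 ∧ u.2.2 = 0 then 0 else
    if u.1 = 0 then 1 else
      if u.2.1 = 0 ∧ u.2.2 = 0 then 2 else 3

theorem cls3_card : ∀ k, (Finset.univ.filter fun i => cls3 i = k).card = ![1, 8, 2, 16] k := by
  decide +kernel

/-- the classes in `3^4` -/
def cls4 (u : ZMod 3 × ZMod 3 × ZMod 3 × ZMod 3) : Fin 6 :=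
  if u.1 = 0 ∧ u.2.1 = 0 then
    if u.2.2.1 = 0 ∧ u.2.2.2 = 0 then 0 else 1
  else
    if u.2.2.1 = 0 ∧ u.2.2.2 = 0 then 2 else
      if u.1 = 0 ∨ u.2.2.1 = 0 then 3 else
        if u.1 * u.2.2.1 = 1 then 4 else 5

theorem cls4_card : ∀ k, (Finset.univ.filter fun i => cls4 i = k).card = ![1, 8, 8, 28, 18, 18] k := by
  decide +kernel

/-- arithmetic for the groups `3^{1+2}` -/
theorem arith1 {A D1 D2 D3 D4 : ℤ} {d : ℕ} (hA : A = 2 ∨ A = 20 ∨ A = -7 ∨ A = -25)
    (h1 : D1 = 2 ∨ D1 = 20 ∨ D1 = -7 ∨ D1 = -25) (h2 : D2 = 2 ∨ D2 = 20 ∨ D2 = -7 ∨ D2 = -25)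
    (h3 : D3 = 2 ∨ D3 = 20 ∨ D3 = -7 ∨ D3 = -25) (h4 : D4 = 2 ∨ D4 = 20 ∨ D4 = -7 ∨ D4 = -25)
    (h : 56 + 14 * A + 3 * D1 + 3 * D2 + 3 * D3 + 3 * D4 = d * 27) : A = 2 := by
  have key : ∀ D : ℤ, (D = 2 ∨ D = 20 ∨ D = -7 ∨ D = -25) → ∃ m : ℤ, D = 2 + 9 * m ∧ m ≤ 2 := by
    rintro D (rfl | rfl | rfl | rfl)
    · exact ⟨0, by norm_num⟩
    · exact ⟨2, by norm_num⟩
    · exact ⟨-1, by norm_num⟩
    · exact ⟨-3, by norm_num⟩
  obtain ⟨m1, k1, l1⟩ := key D1 h1
  obtain ⟨m2, k2, l2⟩ := key D2 h2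
  obtain ⟨m3, k3, l3⟩ := key D3 h3
  obtain ⟨m4, k4, l4⟩ := key D4 h4
  clear h1 h2 h3 h4
  subst k1 k2 k3 k4
  rcases hA with rfl | rfl | rfl | rfl
  · rfl
  · omega
  · omega
  · omega

theorem arith3 {C : ℤ} {d : ℕ} (hC : C = 2 ∨ C = 20 ∨ C = -7 ∨ C = -25)
    (h : 56 + 8 * 2 + 2 * 2 + 16 * C = d * 27) : C = 2 := by
  omega

theorem arith4 {E1 E2 : ℤ} {d : ℕ} (h1 : E1 = 2 ∨ E1 = 20 ∨ E1 = -7 ∨ E1 = -25)
    (h2 : E2 = 2 ∨ E2 = 20 ∨ E2 = -7 ∨ E2 = -25)
    (h : 56 + 8 * 2 + 8 * 2 + 28 * 2 + 18 * E1 + 18 * E2 = d * 81) : False := by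
  omega

section abs

variable {G : Type*} [Group G] {X : ZMod 12 → ZMod 3 → G} (H : Sys X)

include H

theorem short_five (b d : ZMod 3) (hb : b ≠ 0) : IsConj (NF X (b, 0, 0, d, 0, 0)) (NV X 0 1 0 0) := by
  obtain ⟨n, hn⟩ := H.ref5
  obtain ⟨e0, h0, k0⟩ := hn 0
  obtain ⟨e2, h2, k2⟩ := hn 2
  rw [show (4 : ZMod 12) - 0 = 4 by decide] at k0
  rw [show (4 : ZMod 12) - 2 = 2 by decide] at k2
  have h3 : IsConj (NF X (b, 0, 0, d, 0, 0)) (NV X (e0 * b) (e2 * d) 0 0) := by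
    refine isConj_of (g := n) ?_
    show n * (X 0 b * X 5 0 * NV X 0 d 0 0) = _
    unfold NV
    rw [H.zero, H.zero, H.zero, H.zero, mul_one, mul_one, mul_one, mul_one, mul_one, one_mul]
    calc n * (X 0 b * X 2 d) = (n * X 0 b) * X 2 d := by group
      _ = X 4 (e0 * b) * (n * X 2 d) := by rw [k0]; group
      _ = _ := by rw [k2]; group
  exact h3.trans (fuse_one H _ _ (Or.inl (mul_ne_zero h0 hb)))

theorem long_zero (a f : ZMod 3) (ha : a ≠ 0) : IsConj (NF X (0, a, 0, 0, 0, f)) (NV X 0 0 0 1) := by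
  obtain ⟨n, hn⟩ := H.ref0
  obtain ⟨e5, h5, k5⟩ := hn 5
  obtain ⟨e3, h3, k3⟩ := hn 3
  rw [show (6 : ZMod 12) - 5 = 1 by decide] at k5
  rw [show (6 : ZMod 12) - 3 = 3 by decide] at k3
  have h4 : IsConj (NF X (0, a, 0, 0, 0, f)) (NV X 0 0 (e5 * a) (e3 * f)) := by
    refine isConj_of (g := n) ?_
    show n * (X 0 0 * X 5 a * NV X 0 0 0 f) = _
    unfold NV
    rw [H.zero, H.zero, H.zero, H.zero, one_mul, one_mul, one_mul, one_mul]
    calc n * (X 5 a * X 3 f) = (n * X 5 a) * X 3 f := by group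
      _ = X 1 (e5 * a) * (n * X 3 f) := by rw [k5]; group
      _ = _ := by rw [k3]; group
  exact h4.trans (fuse_two H _ _ (Or.inl (mul_ne_zero h5 ha)))

theorem orb_short (b c d : ZMod 3) (hc : c ≠ 0) : IsConj (NF X (b, 0, c, d, 0, 0)) (NF X (b, 0, c, 0, 0, 0)) := by
  refine isConj_of (g := NF X (-(d * c), 0, 0, 0, 0, 0)) ?_
  rw [NF_mul H, NF_mul H]
  congr 1
  simp only [mul, Prod.mk.injEq]
  have h := sq_one c hc
  refine ⟨by first | trivial | ring, trivial, by first | trivial | ring, ?_, by first | trivial | ring, by first | trivial | ring⟩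
  linear_combination -d * h

theorem orb_long (a e f : ZMod 3) (he : e ≠ 0) : IsConj (NF X (0, a, 0, 0, e, f)) (NF X (0, a, 0, 0, e, 0)) := by
  refine isConj_of (g := NF X (0, -(f * e), 0, 0, 0, 0)) ?_
  rw [NF_mul H, NF_mul H]
  congr 1
  simp only [mul, Prod.mk.injEq]
  have h := sq_one e he
  refine ⟨by first | trivial | ring, by first | trivial | ring, by first | trivial | ring, by first | trivial | ring, by first | trivial | ring, ?_⟩
  linear_combination -f * h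

/-- **The contradiction.** -/
theorem main_abs (hinj : Function.Injective (NF X)) (t : G → ℤ) (h1 : t 1 = 56)
    (h3 : ∀ g : G, g ^ 3 = 1 → g ≠ 1 → t g = 2 ∨ t g = 20 ∨ t g = -7 ∨ t g = -25)
    (hc : ∀ x y : G, IsConj x y → t x = t y)
    (hfix : ∀ (ι : Type) [Fintype ι] (f : ι → G), Function.Injective f → (∀ i j, ∃ k, f i * f j = f k) →
      (∃ i, f i = 1) → (∀ i, f i ^ 3 = 1) → Odd (Fintype.card ι) → ∃ d : ℕ, ∑ i, t (f i) = d * Fintype.card ι) :
    False := by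
  have hone : NF X (0, 0, 0, 0, 0, 0) = 1 := NF_zero H
  have hne : ∀ u : T6, u ≠ 0 → NF X u ≠ 1 := fun u hu h => hu (hinj (h.trans (NF_zero H).symm))
  have hcube : ∀ u : T6, mul (mul u u) u = 0 → NF X u ^ 3 = 1 := by
    intro u hu
    rw [pow_succ, pow_two, NF_mul H, NF_mul H, hu, NF_zero H]
  have hv : ∀ u : T6, mul (mul u u) u = 0 → u ≠ 0 →
      t (NF X u) = 2 ∨ t (NF X u) = 20 ∨ t (NF X u) = -7 ∨ t (NF X u) = -25 :=
    fun u hu h0 => h3 _ (hcube u hu) (hne u h0)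
  have c1 : ∀ b c d : ZMod 3, mul (mul (b, 0, c, d, 0, 0) (b, 0, c, d, 0, 0)) (b, 0, c, d, 0, 0) = 0 := by
    decide +kernel
  have c2 : ∀ a e f : ZMod 3, mul (mul (0, a, 0, 0, e, f) (0, a, 0, 0, e, f)) (0, a, 0, 0, e, f) = 0 := by
    decide +kernel
  have c3 : ∀ c d e f : ZMod 3, mul (mul (0, 0, c, d, e, f) (0, 0, c, d, e, f)) (0, 0, c, d, e, f) = 0 := by
    decide +kernel
  -- the class of short root elements
  have hA : t (NV X 0 1 0 0) = 2 := by
    obtain ⟨d, hd⟩ := hfix (ZMod 3 × ZMod 3 × ZMod 3) (fun u => NF X (u.1, 0, u.2.1, u.2.2, 0, 0)) (by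
      rintro ⟨a, b, c⟩ ⟨a', b', c'⟩ h
      simpa using hinj h) (by
      rintro ⟨a, b, c⟩ ⟨a', b', c'⟩
      refine ⟨(a + a', b + b', c + c' - a' * b), ?_⟩
      show NF X _ * NF X _ = NF X _
      rw [NF_mul H]
      congr 1
      simp only [mul, Prod.mk.injEq]
      refine ⟨?_, ?_, ?_, ?_, ?_, ?_⟩ <;> first | trivial | ring) ⟨(0, 0, 0), hone⟩
      (fun u => hcube _ (c1 _ _ _)) (by decide)
    have h4 : ∀ u : ZMod 3 × ZMod 3 × ZMod 3, t (NF X (u.1, 0, u.2.1, u.2.2, 0, 0)) =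
        (![56, t (NV X 0 1 0 0), t (NF X (1, 0, 1, 0, 0, 0)), t (NF X (1, 0, 2, 0, 0, 0)),
          t (NF X (2, 0, 1, 0, 0, 0)), t (NF X (2, 0, 2, 0, 0, 0))] : Fin 6 → ℤ) (cls1 u) := by
      rintro ⟨b, c, d⟩
      unfold cls1
      simp only
      split_ifs with k1 k2 k3 k4 k5
      · obtain ⟨rfl, rfl, rfl⟩ := k1
        show t (NF X (0, 0, 0, 0, 0, 0)) = 56
        rw [hone, h1]
      · show _ = t (NV X 0 1 0 0)
        by_cases hb : b = 0
        · subst hb
          rw [NF_V H]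
          refine hc _ _ (fuse_one H c d ?_)
          by_contra h
          rw [not_or, not_not, not_not] at h
          exact k1 ⟨rfl, h⟩
        · have hc0 : c = 0 := k2.resolve_left hb
          subst hc0
          exact hc _ _ (short_five H b d hb)
      · obtain ⟨rfl, rfl⟩ := k3
        exact hc _ _ (orb_short H 1 1 d (by decide))
      · rw [not_or] at k2
        have hb : b = 1 := k4
        subst hb
        have hc2 : ∀ x : ZMod 3, x ≠ 0 → x ≠ 1 → x = 2 := by decide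
        have : c = 2 := hc2 c k2.2 (fun h => k3 ⟨rfl, h⟩)
        subst this
        exact hc _ _ (orb_short H 1 2 d (by decide))
      · rw [not_or] at k2
        have hc2 : ∀ x : ZMod 3, x ≠ 0 → x ≠ 1 → x = 2 := by decide
        have hb : b = 2 := hc2 b k2.1 k4
        have hcc : c = 1 := k5
        subst hb hcc
        exact hc _ _ (orb_short H 2 1 d (by decide))
      · rw [not_or] at k2
        have hc2 : ∀ x : ZMod 3, x ≠ 0 → x ≠ 1 → x = 2 := by decide
        have hb : b = 2 := hc2 b k2.1 k4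
        have hcc : c = 2 := hc2 c k2.2 k5
        subst hb hcc
        exact hc _ _ (orb_short H 2 2 d (by decide))
    rw [Finset.sum_congr rfl fun u _ => h4 u, sum_cls, Finset.sum_congr rfl fun k _ => by rw [cls1_card k]] at hd
    have h5 : Fintype.card (ZMod 3 × ZMod 3 × ZMod 3) = 27 := by decide
    rw [h5] at hd
    simp only [Fin.sum_univ_succ, Fin.sum_univ_zero] at hd
    have h6 : t (NV X 0 1 0 0) = 2 ∨ t (NV X 0 1 0 0) = 20 ∨ t (NV X 0 1 0 0) = -7 ∨ t (NV X 0 1 0 0) = -25 := by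
      rw [← NF_V H]
      exact hv _ (c3 _ _ _ _) (by decide)
    refine arith1 (d := d) h6 (hv (1, 0, 1, 0, 0, 0) (c1 _ _ _) (by decide)) (hv (1, 0, 2, 0, 0, 0) (c1 _ _ _) (by decide))
      (hv (2, 0, 1, 0, 0, 0) (c1 _ _ _) (by decide)) (hv (2, 0, 2, 0, 0, 0) (c1 _ _ _) (by decide)) ?_
    simp at hd
    linarith only [hd]
  -- the class of long root elements
  have hB : t (NV X 0 0 0 1) = 2 := by
    obtain ⟨d, hd⟩ := hfix (ZMod 3 × ZMod 3 × ZMod 3) (fun u => NF X (0, u.1, 0, 0, u.2.1, u.2.2)) (by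
      rintro ⟨a, b, c⟩ ⟨a', b', c'⟩ h
      simpa using hinj h) (by
      rintro ⟨a, b, c⟩ ⟨a', b', c'⟩
      refine ⟨(a + a', b + b', c + c' - a' * b), ?_⟩
      show NF X _ * NF X _ = NF X _
      rw [NF_mul H]
      congr 1
      simp only [mul, Prod.mk.injEq]
      refine ⟨?_, ?_, ?_, ?_, ?_, ?_⟩ <;> first | trivial | ring) ⟨(0, 0, 0), hone⟩
      (fun u => hcube _ (c2 _ _ _)) (by decide)
    have h4 : ∀ u : ZMod 3 × ZMod 3 × ZMod 3, t (NF X (0, u.1, 0, 0, u.2.1, u.2.2)) =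
        (![56, t (NV X 0 0 0 1), t (NF X (0, 1, 0, 0, 1, 0)), t (NF X (0, 1, 0, 0, 2, 0)),
          t (NF X (0, 2, 0, 0, 1, 0)), t (NF X (0, 2, 0, 0, 2, 0))] : Fin 6 → ℤ) (cls1 u) := by
      rintro ⟨b, c, d⟩
      unfold cls1
      simp only
      split_ifs with k1 k2 k3 k4 k5
      · obtain ⟨rfl, rfl, rfl⟩ := k1
        show t (NF X (0, 0, 0, 0, 0, 0)) = 56
        rw [hone, h1]
      · show _ = t (NV X 0 0 0 1)
        by_cases hb : b = 0
        · subst hb
          rw [NF_V H]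
          refine hc _ _ (fuse_two H c d ?_)
          by_contra h
          rw [not_or, not_not, not_not] at h
          exact k1 ⟨rfl, h⟩
        · have hc0 : c = 0 := k2.resolve_left hb
          subst hc0
          exact hc _ _ (long_zero H b d hb)
      · obtain ⟨rfl, rfl⟩ := k3
        exact hc _ _ (orb_long H 1 1 d (by decide))
      · rw [not_or] at k2
        have hb : b = 1 := k4
        subst hb
        have hc2 : ∀ x : ZMod 3, x ≠ 0 → x ≠ 1 → x = 2 := by decide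
        have : c = 2 := hc2 c k2.2 (fun h => k3 ⟨rfl, h⟩)
        subst this
        exact hc _ _ (orb_long H 1 2 d (by decide))
      · rw [not_or] at k2
        have hc2 : ∀ x : ZMod 3, x ≠ 0 → x ≠ 1 → x = 2 := by decide
        have hb : b = 2 := hc2 b k2.1 k4
        have hcc : c = 1 := k5
        subst hb hcc
        exact hc _ _ (orb_long H 2 1 d (by decide))
      · rw [not_or] at k2
        have hc2 : ∀ x : ZMod 3, x ≠ 0 → x ≠ 1 → x = 2 := by decide
        have hb : b = 2 := hc2 b k2.1 k4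
        have hcc : c = 2 := hc2 c k2.2 k5
        subst hb hcc
        exact hc _ _ (orb_long H 2 2 d (by decide))
    rw [Finset.sum_congr rfl fun u _ => h4 u, sum_cls, Finset.sum_congr rfl fun k _ => by rw [cls1_card k]] at hd
    have h5 : Fintype.card (ZMod 3 × ZMod 3 × ZMod 3) = 27 := by decide
    rw [h5] at hd
    simp only [Fin.sum_univ_succ, Fin.sum_univ_zero] at hd
    have h6 : t (NV X 0 0 0 1) = 2 ∨ t (NV X 0 0 0 1) = 20 ∨ t (NV X 0 0 0 1) = -7 ∨ t (NV X 0 0 0 1) = -25 := by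
      rw [← NF_V H]
      exact hv _ (c3 _ _ _ _) (by decide)
    refine arith1 (d := d) h6 (hv (0, 1, 0, 0, 1, 0) (c2 _ _ _) (by decide)) (hv (0, 1, 0, 0, 2, 0) (c2 _ _ _) (by decide))
      (hv (0, 2, 0, 0, 1, 0) (c2 _ _ _) (by decide)) (hv (0, 2, 0, 0, 2, 0) (c2 _ _ _) (by decide)) ?_
    simp at hd
    linarith only [hd]
  -- the class of the products
  have hC : t (NV X 0 1 0 1) = 2 := by
    obtain ⟨d, hd⟩ := hfix (ZMod 3 × ZMod 3 × ZMod 3) (fun u => NF X (0, 0, 0, u.1, u.2.1, u.2.2)) (by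
      rintro ⟨a, b, c⟩ ⟨a', b', c'⟩ h
      simpa using hinj h) (by
      rintro ⟨a, b, c⟩ ⟨a', b', c'⟩
      refine ⟨(a + a', b + b', c + c'), ?_⟩
      show NF X _ * NF X _ = NF X _
      rw [NF_mul H]
      congr 1
      simp only [mul, Prod.mk.injEq]
      refine ⟨?_, ?_, ?_, ?_, ?_, ?_⟩ <;> first | trivial | ring) ⟨(0, 0, 0), hone⟩
      (fun u => hcube _ (c3 _ _ _ _)) (by decide)
    have h4 : ∀ u : ZMod 3 × ZMod 3 × ZMod 3, t (NF X (0, 0, 0, u.1, u.2.1, u.2.2)) =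
        (![56, 2, 2, t (NV X 0 1 0 1)] : Fin 4 → ℤ) (cls3 u) := by
      rintro ⟨b, c, d⟩
      unfold cls3
      simp only
      split_ifs with k1 k2 k3
      · obtain ⟨rfl, rfl, rfl⟩ := k1
        show t (NF X (0, 0, 0, 0, 0, 0)) = 56
        rw [hone, h1]
      · show _ = 2
        subst k2
        rw [NF_V H, ← hB]
        refine hc _ _ (fuse_two H c d ?_)
        by_contra h
        rw [not_or, not_not, not_not] at h
        exact k1 ⟨rfl, h⟩
      · show _ = 2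
        obtain ⟨rfl, rfl⟩ := k3
        rw [NF_V H, ← hA]
        exact hc _ _ (fuse_one H 0 b (Or.inr k2))
      · rw [NF_V H]
        refine hc _ _ (fuse_three H 0 b c d (Or.inr k2) ?_ (Or.inl rfl))
        by_contra h
        rw [not_or, not_not, not_not] at h
        exact k3 h
    rw [Finset.sum_congr rfl fun u _ => h4 u, sum_cls, Finset.sum_congr rfl fun k _ => by rw [cls3_card k]] at hd
    have h5 : Fintype.card (ZMod 3 × ZMod 3 × ZMod 3) = 27 := by decide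
    rw [h5] at hd
    simp only [Fin.sum_univ_succ, Fin.sum_univ_zero] at hd
    have h6 : t (NV X 0 1 0 1) = 2 ∨ t (NV X 0 1 0 1) = 20 ∨ t (NV X 0 1 0 1) = -7 ∨ t (NV X 0 1 0 1) = -25 := by
      rw [← NF_V H]
      exact hv _ (c3 _ _ _ _) (by decide)
    refine arith3 (d := d) h6 ?_
    simp at hd
    linarith only [hd]
  obtain ⟨d, hd⟩ := hfix (ZMod 3 × ZMod 3 × ZMod 3 × ZMod 3) (fun u => NF X (0, 0, u.1, u.2.1, u.2.2.1, u.2.2.2)) (by
    rintro ⟨a, b, c, d⟩ ⟨a', b', c', d'⟩ h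
    simpa using hinj h) (by
    rintro ⟨a, b, c, d⟩ ⟨a', b', c', d'⟩
    refine ⟨(a + a', b + b', c + c', d + d'), ?_⟩
    show NF X _ * NF X _ = NF X _
    rw [NF_mul H]
    congr 1
    simp only [mul, Prod.mk.injEq]
    refine ⟨?_, ?_, ?_, ?_, ?_, ?_⟩ <;> first | trivial | ring) ⟨(0, 0, 0, 0), hone⟩
    (fun u => hcube _ (c3 _ _ _ _)) (by decide)
  have h4 : ∀ u : ZMod 3 × ZMod 3 × ZMod 3 × ZMod 3, t (NF X (0, 0, u.1, u.2.1, u.2.2.1, u.2.2.2)) =
      (![56, 2, 2, 2, t (NV X 1 0 1 0), t (NV X 1 0 (-1) 0)] : Fin 6 → ℤ) (cls4 u) := by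
    rintro ⟨a, b, c, d⟩
    unfold cls4
    simp only
    rw [NF_V H]
    split_ifs with k1 k2 k3 k4 k5
    · obtain ⟨rfl, rfl⟩ := k1
      obtain ⟨rfl, rfl⟩ := k2
      show t (NV X 0 0 0 0) = 56
      rw [NV_zero H, h1]
    · show _ = 2
      obtain ⟨rfl, rfl⟩ := k1
      rw [← hB]
      refine hc _ _ (fuse_two H c d ?_)
      by_contra h
      rw [not_or, not_not, not_not] at h
      exact k2 h
    · show _ = 2
      obtain ⟨rfl, rfl⟩ := k3
      rw [← hA]
      refine hc _ _ (fuse_one H a b ?_)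
      by_contra h
      rw [not_or, not_not, not_not] at h
      exact k1 h
    · show _ = 2
      rw [← hC]
      rw [not_and_or] at k1 k3
      exact hc _ _ (fuse_three H a b c d k1 k3 k4)
    · rw [not_or] at k4
      show _ = t (NV X 1 0 1 0)
      have := hc _ _ (fuse_four H a b c d k4.1 k4.2)
      rwa [k5] at this
    · rw [not_or] at k4
      show _ = t (NV X 1 0 (-1) 0)
      have h5 : a * c = -1 := by
        have h2 : ∀ x : ZMod 3, x ≠ 0 → x ≠ 1 → x = -1 := by decide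
        exact h2 _ (mul_ne_zero k4.1 k4.2) k5
      have := hc _ _ (fuse_four H a b c d k4.1 k4.2)
      rwa [h5] at this
  rw [Finset.sum_congr rfl fun u _ => h4 u, sum_cls, Finset.sum_congr rfl fun k _ => by rw [cls4_card k]] at hd
  have h5 : Fintype.card (ZMod 3 × ZMod 3 × ZMod 3 × ZMod 3) = 81 := by decide
  rw [h5] at hd
  simp only [Fin.sum_univ_succ, Fin.sum_univ_zero] at hd
  refine arith4 (d := d) (E1 := t (NV X 1 0 1 0)) (E2 := t (NV X 1 0 (-1) 0)) ?_ ?_ ?_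
  · rw [← NF_V H]
    exact hv _ (c3 _ _ _ _) (by decide)
  · rw [← NF_V H]
    exact hv _ (c3 _ _ _ _) (by decide)
  · simp at hd
    linarith only [hd]

end abs

open Cfsg.Agent.H120.GTwo in
/-- **`G₂(3)` is not admissible** (any field with three elements). -/
theorem not_chevG2 {F : Type u} [Field F] [Fintype F] (hF : Fintype.card F = 3) :
    ¬ Adm ↥(Cfsg.Lie.chevG2.group F) := by
  classical
  rintro ⟨M, V, hM, hV, σ, HV⟩
  have hchar : CharP F 3 := by
    obtain ⟨p, hp⟩ := CharP.exists F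
    obtain ⟨n, hprime, hn⟩ := FiniteField.card F p
    rw [hF] at hn
    have h2 : p ∣ 3 := hn ▸ dvd_pow_self p n.ne_zero
    have h3 : p = 3 := (Nat.prime_dvd_prime_iff_eq hprime Nat.prime_three).1 h2
    rw [← h3]
    exact hp
  have ι : ZMod 3 ≃+* F := ZMod.ringEquiv F hF
  have H := sys ι
  obtain ⟨-, -, hinj⟩ := exists_sylow hF ι
  have hfin : Finite ↥(Cfsg.Lie.chevG2.group F) := inferInstance
  have hval : ∀ g : ↥(Cfsg.Lie.chevG2.group F), ∃ m : ℤ, (g = 1 → m = 56) ∧ (g ^ 3 = 1 → bc 2 σ g = m) ∧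
      (g ^ 3 = 1 → g ≠ 1 → m = 2 ∨ m = 20 ∨ m = -7 ∨ m = -25) := by
    intro g
    by_cases h1 : g = 1
    · subst h1
      exact ⟨56, fun _ => rfl, fun _ => by rw [HV.one]; norm_num, fun _ h => absurd rfl h⟩
    · by_cases h3 : g ^ 3 = 1
      · have ho : orderOf g = 3 := orderOf_eq_prime h3 h1
        rcases HV.three g ho with h | h | h | h
        · exact ⟨2, fun h' => absurd h' h1, fun _ => by rw [h]; norm_num, fun _ _ => Or.inl rfl⟩
        · exact ⟨20, fun h' => absurd h' h1, fun _ => by rw [h]; norm_num, fun _ _ => Or.inr (Or.inl rfl)⟩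
        · exact ⟨-7, fun h' => absurd h' h1, fun _ => by rw [h]; norm_num, fun _ _ => Or.inr (Or.inr (Or.inl rfl))⟩
        · exact ⟨-25, fun h' => absurd h' h1, fun _ => by rw [h]; norm_num, fun _ _ => Or.inr (Or.inr (Or.inr rfl))⟩
      · exact ⟨0, fun h' => absurd h' h1, fun h' => absurd h' h3, fun h' => absurd h' h3⟩
  -- a class function
  let t : ↥(Cfsg.Lie.chevG2.group F) → ℤ := fun g => if g ^ 3 = 1 then (hval g).choose else 0
  have ht : ∀ g, g ^ 3 = 1 → t g = (hval g).choose := fun g hg => if_pos hg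
  have htb : ∀ g, g ^ 3 = 1 → bc 2 σ g = t g := fun g hg => by
    rw [ht g hg]
    exact (hval g).choose_spec.2.1 hg
  refine main_abs H hinj t ?_ ?_ ?_ ?_
  · rw [ht 1 (one_pow 3)]
    exact (hval 1).choose_spec.1 rfl
  · intro g hg h1
    rw [ht g hg]
    exact (hval g).choose_spec.2.2 hg h1
  · intro x y hxy
    obtain ⟨c, rfl⟩ := isConj_iff.1 hxy
    have h1 : (c * x * c⁻¹) ^ 3 = c * x ^ 3 * c⁻¹ := conj_pow
    by_cases hx : x ^ 3 = 1
    · have hy : (c * x * c⁻¹) ^ 3 = 1 := by rw [h1, hx, mul_one, mul_inv_cancel]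
      have h2 : (t x : ℂ) = t (c * x * c⁻¹) := by
        rw [← htb _ hx, ← htb _ hy, bc_conj]
      exact_mod_cast h2
    · have hy : (c * x * c⁻¹) ^ 3 ≠ 1 := by
        intro h
        apply hx
        rw [h1, mul_inv_eq_one] at h
        exact mul_left_cancel (h.trans (mul_one c).symm)
      show (if x ^ 3 = 1 then _ else (0 : ℤ)) = if (c * x * c⁻¹) ^ 3 = 1 then _ else (0 : ℤ)
      rw [if_neg hx, if_neg hy]
  · intro κ _ f hf hmul h1 h3 hodd
    obtain ⟨d, -, hd⟩ := fix hM hV σ f hf hmul h1 hodd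
    refine ⟨d, ?_⟩
    rw [Finset.sum_congr rfl fun i _ => htb (f i) (h3 i)] at hd
    exact_mod_cast hd

/-- **`G₂(3)` is not admissible.** -/
theorem not_chevG2_three : ¬ Adm ↥(Cfsg.Lie.chevG2.group (ZMod 3)) := not_chevG2 (ZMod.card 3)

end Cfsg.Agent.H299.E7V
end
end
end
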